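import Cfsg.Agent.H721.Base
import Cfsg.Agent.SporRec.HeldPerm
import Cfsg.Agent.S1695

/-!
# Held's group has real elements of order 7 (helper721)
-/

set_option autoImplicit false

namespace Cfsg.Agent.H721.Held

open Cfsg Cfsg.Spor
open Cfsg.Agent.H722.RealP Cfsg.Agent.H721.Base
open Cfsg.Agent.SporRec.HeldPerm

/-- a generator of He -/
def g (x : Spor.He.Gen) : Spor.He :=
  PresentedGroup.mk (coxRelators Spor.He.edges ∪ {r | r ∈ Spor.He.extra}) (FreeGroup.of x)

theorem φ_g (x : Spor.He.Gen) : φ (g x) = gen x := φ_of x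

/-- a word -/
def wd (w : List Spor.He.Gen) : Spor.He := (w.map g).prod

theorem φ_wd (w : List Spor.He.Gen) : φ (wd w) = (w.map gen).prod := by
  induction w with
  | nil => exact map_one φ
  | cons x w ih =>
    have h1 : wd (x :: w) = g x * wd w := by
      unfold wd
      rw [List.map_cons, List.prod_cons]
    rw [h1, map_mul, φ_g, ih, List.map_cons, List.prod_cons]

theorem wd_append (v w : List Spor.He.Gen) : wd (v ++ w) = wd v * wd w := by
  unfold wd
  rw [List.map_append, List.prod_append]

theorem gen_a_ne : gen Spor.He.Gen.a ≠ 1 := by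
  intro h
  have h1 : ∀ i : Fin 2058, tr [Spor.He.Gen.a] i = i := fun i => by
    rw [← prod_val, List.map_cons, List.map_nil, List.prod_cons, List.prod_nil, mul_one, h]
    rfl
  have h2 : Nat.beq (tr [Spor.He.Gen.a] 2057) 2057 = false := by decide +kernel
  have h3 := h1 ⟨2057, by norm_num⟩
  rw [show tr [Spor.He.Gen.a] 2057 = 2057 from h3, Nat.beq_refl] at h2
  exact Bool.noConfusion h2

theorem φ_injective : Function.Injective φ := by
  have h0 : IsHe Spor.He := S1695.result
  have : IsSimpleGroup Spor.He := h0.1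
  rw [← MonoidHom.ker_eq_bot_iff]
  rcases (inferInstance : φ.ker.Normal).eq_bot_or_eq_top with h | h
  · exact h
  · exfalso
    have hx : g Spor.He.Gen.a ∈ φ.ker := by rw [h]; trivial
    rw [MonoidHom.mem_ker, φ_g] at hx
    exact gen_a_ne hx

theorem wd_eq_one {w : List Spor.He.Gen} (h : chk w = true) : wd w = 1 := by
  apply φ_injective
  rw [φ_wd, prod_eq_one h, map_one]

open Spor.He.Gen in
/-- the second involution -/
def wV : List Spor.He.Gen := [c, b, d, c, d, c, d, b, c]

open Spor.He.Gen in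
def w1 : List Spor.He.Gen := d :: wV

def w3 : List Spor.He.Gen := w1 ++ (w1 ++ w1)
def w21 : List Spor.He.Gen := w3 ++ (w3 ++ (w3 ++ (w3 ++ (w3 ++ (w3 ++ w3)))))

theorem chk_v : chk (wV ++ wV) = true := by decide +kernel
theorem chk_u : chk ([Spor.He.Gen.d] ++ [Spor.He.Gen.d]) = true := by decide +kernel
theorem chk_21 : chk w21 = true := by decide +kernel

theorem w3_ne : wd w3 ≠ 1 := by
  intro h
  have h1 : (w3.map gen).prod = 1 := by rw [← φ_wd, h, map_one]
  have h2 : ∀ i : Fin 2058, tr w3 i = i := fun i => by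
    rw [← prod_val, h1]
    rfl
  have h3 : Nat.beq (tr w3 0) 0 = false := by decide +kernel
  have h4 := h2 ⟨0, by norm_num⟩
  rw [show tr w3 0 = 0 from h4, Nat.beq_refl] at h3
  exact Bool.noConfusion h3

theorem he_seven : HasReal 7 Spor.He := by
  set u := wd [Spor.He.Gen.d] with hu
  set v := wd wV with hv
  have huu : u * u = 1 := by
    rw [hu, ← wd_append]
    exact wd_eq_one chk_u
  have hvv : v * v = 1 := by
    rw [hv, ← wd_append]
    exact wd_eq_one chk_v
  have h1 : wd w1 = u * v := by
    rw [hu, hv, ← wd_append]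
    rfl
  have h3 : wd w3 = (u * v) ^ 3 := by
    unfold w3
    rw [wd_append, wd_append, h1, pow_succ', pow_two]
  have h21 : (wd w3) ^ 7 = 1 := by
    rw [← wd_eq_one chk_21]
    unfold w21
    simp only [wd_append, pow_succ, pow_zero, one_mul, mul_assoc]
  refine hasReal_of_inv_sq (x := wd w3) (t := u) (by norm_num) h21 w3_ne huu ?_
  have hv' : v⁻¹ = v := inv_eq_of_mul_eq_one_left hvv
  have hu' : u⁻¹ = u := inv_eq_of_mul_eq_one_left huu
  have h5 : u * (u * v) * u⁻¹ = (u * v)⁻¹ := by
    rw [mul_inv_rev, hu', hv']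
    calc u * (u * v) * u = (u * u) * v * u := by group
      _ = v * u := by rw [huu, one_mul]
  rw [h3, ← inv_pow, ← h5, conj_pow]

end Cfsg.Agent.H721.Held
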