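import Cfsg.Agent.H721.Sym
import Cfsg.Prelude.Def_Spor_Fi22
import Cfsg.Prelude.Def_Spor_Fi23
import Cfsg.Prelude.Def_Spor_Fi24
import Cfsg.Prelude.Def_Spor_B
import Cfsg.Prelude.Def_Spor_M

/-!
# Real elements of order 5 and 7 in the groups presented on Y-diagrams (helper721)
-/

set_option autoImplicit false

namespace Cfsg.Agent.H721.Cox

open Subgroup Equiv Equiv.Perm
open Cfsg.Agent.H722.RealP Cfsg.Agent.H721.Base Cfsg.Agent.H721.SymP
open Cfsg.Spor

section

variable {α : Type*} [DecidableEq α] {edges : List (α × ℕ × α)} {extra : List (FreeGroup α)}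

theorem rel {x y : α} (hx : x ∈ coxNodes edges) (hy : y ∈ coxNodes edges) {m : ℕ} (hm : coxLabel edges x y = m) :
    ((PresentedGroup.of x : CoxPresented α edges extra) * PresentedGroup.of y) ^ m = 1 := by
  have h : PresentedGroup.mk (coxRelators edges ∪ {r | r ∈ extra})
      ((FreeGroup.of x * FreeGroup.of y) ^ m) = 1 :=
    PresentedGroup.one_of_mem (Or.inl ⟨x, hx, y, hy, by rw [hm]⟩)
  rw [map_pow, map_mul] at h
  exact h

theorem sq {x : α} (hx : x ∈ coxNodes edges) :
    (PresentedGroup.of x : CoxPresented α edges extra) * PresentedGroup.of x = 1 := by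
  simpa using rel (extra := extra) hx hx (m := 1) (by simp [coxLabel])

/-- a chain in the diagram -/
theorem chain {n : ℕ} (s : Fin n → α) (hs : ∀ i, s i ∈ coxNodes edges)
    (h3 : ∀ i j : Fin n, i.val + 1 = j.val → coxLabel edges (s i) (s j) = 3)
    (h2 : ∀ i j : Fin n, i.val + 1 < j.val → coxLabel edges (s i) (s j) = 2) :
    Chain (fun i => (PresentedGroup.of (s i) : CoxPresented α edges extra)) where
  sq i := sq (hs i)
  br i j hij := rel (hs i) (hs j) (h3 i j hij)
  co i j hij := rel (hs i) (hs j) (h2 i j hij)

/-- all generators of a list agree with `b` -/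
def Coll (edges : List (α × ℕ × α)) (extra : List (FreeGroup α)) (b : α) (V : List α) : Prop :=
  ∀ v ∈ V, (PresentedGroup.of v : CoxPresented α edges extra) = PresentedGroup.of b

/-- spreading a coincidence -/
theorem Coll.cons {b : α} {V : List α} (h : Coll edges extra b V) (x y z : α) (hx' : x ∈ V) (hy' : y ∈ V)
    (hx : x ∈ coxNodes edges) (hy : y ∈ coxNodes edges) (hz : z ∈ coxNodes edges)
    (h3 : coxLabel edges y z = 3) (h2 : coxLabel edges x z = 2) : Coll edges extra b (z :: V) := by
  have hb := rel (extra := extra) hy hz h3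
  have hc := comm_of_sq (sq (extra := extra) hx) (sq hz) (rel (extra := extra) hx hz h2)
  rw [h x hx', ← h y hy'] at hc
  have e := (eq_of_braid (sq hy) (sq hz) hb hc).symm
  intro v hv
  rcases List.mem_cons.1 hv with rfl | hv
  · rw [e, h y hy']
  · exact h v hv

theorem Coll.nil {b c : α} (h : (PresentedGroup.of c : CoxPresented α edges extra) = PresentedGroup.of b) :
    Coll edges extra b [c, b] := by
  intro v hv
  simp only [List.mem_cons, List.not_mem_nil, or_false] at hv
  rcases hv with rfl | rfl
  · exact h
  · rfl

/-- all generators equal: commutative -/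
theorem comm_of_all {x : α} (h : ∀ y : α, (PresentedGroup.of y : CoxPresented α edges extra) = PresentedGroup.of x) :
    ∀ a b : CoxPresented α edges extra, a * b = b * a := by
  have hz : ∀ a : CoxPresented α edges extra, a ∈ Subgroup.zpowers (PresentedGroup.of x : CoxPresented α edges extra) := by
    intro a
    have h1 : Subgroup.closure (Set.range (PresentedGroup.of : α → CoxPresented α edges extra)) = ⊤ :=
      PresentedGroup.closure_range_of _
    have h2 : (⊤ : Subgroup (CoxPresented α edges extra)) ≤ Subgroup.zpowers (PresentedGroup.of x) := by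
      rw [← h1, Subgroup.closure_le]
      rintro _ ⟨y, rfl⟩
      rw [h y]
      exact Subgroup.mem_zpowers _
    exact h2 (Subgroup.mem_top a)
  intro a b
  obtain ⟨m, rfl⟩ := hz a
  obtain ⟨n, rfl⟩ := hz b
  exact (Commute.refl _).zpow_zpow m n

end

/-! ### fi22 -/

section fi22

open Cfsg.Spor.Fi22

theorem coll_fi22 (h : (PresentedGroup.of .a : Spor.Fi22) = PresentedGroup.of .b) :
    ∀ a b : Spor.Fi22, a * b = b * a := by
  have h1 : Coll Fi22.edges Fi22.extra .a [.b, .a] := Coll.nil h.symm
  have h1 := h1.cons .a .b .c
    (by decide) (by decide) (by decide) (by decide) (by decide) (by decide) (by decide)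
  have h1 := h1.cons .a .c .d
    (by decide) (by decide) (by decide) (by decide) (by decide) (by decide) (by decide)
  have h1 := h1.cons .a .d .e
    (by decide) (by decide) (by decide) (by decide) (by decide) (by decide) (by decide)
  have h1 := h1.cons .a .e .f
    (by decide) (by decide) (by decide) (by decide) (by decide) (by decide) (by decide)
  have h1 := h1.cons .a .f .g
    (by decide) (by decide) (by decide) (by decide) (by decide) (by decide) (by decide)
  have h1 := h1.cons .a .d .h
    (by decide) (by decide) (by decide) (by decide) (by decide) (by decide) (by decide)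
  have h1 := h1.cons .a .h .i
    (by decide) (by decide) (by decide) (by decide) (by decide) (by decide) (by decide)
  exact comm_of_all (x := .a) fun y => h1 y (by cases y <;> decide)

def s22 : Fin 4 → Fi22.Gen := ![.a, .b, .c, .d]

theorem fi22_five (hna : ¬ ∀ a b : Spor.Fi22, a * b = b * a) : HasReal 5 Spor.Fi22 :=
  (chain (edges := Fi22.edges) (extra := Fi22.extra) s22 (by decide) (by decide) (by decide)).hasReal_five
    fun h => hna (coll_fi22 h)

end fi22

/-! ### fi23 -/

section fi23

open Cfsg.Spor.Fi23

theorem coll_fi23 (h : (PresentedGroup.of .a : Spor.Fi23) = PresentedGroup.of .b) :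
    ∀ a b : Spor.Fi23, a * b = b * a := by
  have h1 : Coll Fi23.edges Fi23.extra .a [.b, .a] := Coll.nil h.symm
  have h1 := h1.cons .a .b .c
    (by decide) (by decide) (by decide) (by decide) (by decide) (by decide) (by decide)
  have h1 := h1.cons .a .c .d
    (by decide) (by decide) (by decide) (by decide) (by decide) (by decide) (by decide)
  have h1 := h1.cons .a .d .e
    (by decide) (by decide) (by decide) (by decide) (by decide) (by decide) (by decide)
  have h1 := h1.cons .a .e .f
    (by decide) (by decide) (by decide) (by decide) (by decide) (by decide) (by decide)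
  have h1 := h1.cons .a .f .g
    (by decide) (by decide) (by decide) (by decide) (by decide) (by decide) (by decide)
  have h1 := h1.cons .a .g .j
    (by decide) (by decide) (by decide) (by decide) (by decide) (by decide) (by decide)
  have h1 := h1.cons .a .d .h
    (by decide) (by decide) (by decide) (by decide) (by decide) (by decide) (by decide)
  have h1 := h1.cons .a .h .i
    (by decide) (by decide) (by decide) (by decide) (by decide) (by decide) (by decide)
  exact comm_of_all (x := .a) fun y => h1 y (by cases y <;> decide)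

def s23 : Fin 4 → Fi23.Gen := ![.a, .b, .c, .d]

theorem fi23_five (hna : ¬ ∀ a b : Spor.Fi23, a * b = b * a) : HasReal 5 Spor.Fi23 :=
  (chain (edges := Fi23.edges) (extra := Fi23.extra) s23 (by decide) (by decide) (by decide)).hasReal_five
    fun h => hna (coll_fi23 h)

end fi23

/-! ### b -/

section b

open Cfsg.Spor.BabyMonster

theorem coll_b (h : (PresentedGroup.of .t1 : Spor.BabyMonster) = PresentedGroup.of .t2) :
    ∀ a b : Spor.BabyMonster, a * b = b * a := by
  have h1 : Coll BabyMonster.edges BabyMonster.extra .t1 [.t2, .t1] := Coll.nil h.symm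
  have h1 := h1.cons .t1 .t2 .t3
    (by decide) (by decide) (by decide) (by decide) (by decide) (by decide) (by decide)
  have h1 := h1.cons .t1 .t3 .t4
    (by decide) (by decide) (by decide) (by decide) (by decide) (by decide) (by decide)
  have h1 := h1.cons .t1 .t4 .t5
    (by decide) (by decide) (by decide) (by decide) (by decide) (by decide) (by decide)
  have h1 := h1.cons .t1 .t5 .t6
    (by decide) (by decide) (by decide) (by decide) (by decide) (by decide) (by decide)
  have h1 := h1.cons .t1 .t6 .t7
    (by decide) (by decide) (by decide) (by decide) (by decide) (by decide) (by decide)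
  have h1 := h1.cons .t1 .t7 .t8
    (by decide) (by decide) (by decide) (by decide) (by decide) (by decide) (by decide)
  have h1 := h1.cons .t1 .t5 .t9
    (by decide) (by decide) (by decide) (by decide) (by decide) (by decide) (by decide)
  have h1 := h1.cons .t1 .t9 .t10
    (by decide) (by decide) (by decide) (by decide) (by decide) (by decide) (by decide)
  have h1 := h1.cons .t1 .t10 .t11
    (by decide) (by decide) (by decide) (by decide) (by decide) (by decide) (by decide)
  exact comm_of_all (x := .t1) fun y => h1 y (by cases y <;> decide)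

def sB5 : Fin 4 → BabyMonster.Gen := ![.t1, .t2, .t3, .t4]

theorem b_five (hna : ¬ ∀ a b : Spor.BabyMonster, a * b = b * a) : HasReal 5 Spor.BabyMonster :=
  (chain (edges := BabyMonster.edges) (extra := BabyMonster.extra) sB5 (by decide) (by decide) (by decide)).hasReal_five
    fun h => hna (coll_b h)

def sB7 : Fin 6 → BabyMonster.Gen := ![.t1, .t2, .t3, .t4, .t5, .t6]

theorem b_seven (hna : ¬ ∀ a b : Spor.BabyMonster, a * b = b * a) : HasReal 7 Spor.BabyMonster :=
  (chain (edges := BabyMonster.edges) (extra := BabyMonster.extra) sB7 (by decide) (by decide) (by decide)).hasReal_seven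
    fun h => hna (coll_b h)

end b

/-! ### fi24 -/

section fi24

open Cfsg.Spor.Fi24

theorem coll_fi24 (h : (PresentedGroup.of .l : Spor.Fi24) = PresentedGroup.of .k) :
    ∀ a b : Spor.Fi24, a * b = b * a := by
  have h1 : Coll Fi24.edges Fi24.extra .l [.k, .l] := Coll.nil h.symm
  have h1 := h1.cons .l .k .a
    (by decide) (by decide) (by decide) (by decide) (by decide) (by decide) (by decide)
  have h1 := h1.cons .l .a .b
    (by decide) (by decide) (by decide) (by decide) (by decide) (by decide) (by decide)
  have h1 := h1.cons .l .b .c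
    (by decide) (by decide) (by decide) (by decide) (by decide) (by decide) (by decide)
  have h1 := h1.cons .l .c .d
    (by decide) (by decide) (by decide) (by decide) (by decide) (by decide) (by decide)
  have h1 := h1.cons .l .d .e
    (by decide) (by decide) (by decide) (by decide) (by decide) (by decide) (by decide)
  have h1 := h1.cons .l .e .f
    (by decide) (by decide) (by decide) (by decide) (by decide) (by decide) (by decide)
  have h1 := h1.cons .l .f .g
    (by decide) (by decide) (by decide) (by decide) (by decide) (by decide) (by decide)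
  have h1 := h1.cons .l .g .j
    (by decide) (by decide) (by decide) (by decide) (by decide) (by decide) (by decide)
  have h1 := h1.cons .l .d .h
    (by decide) (by decide) (by decide) (by decide) (by decide) (by decide) (by decide)
  have h1 := h1.cons .l .h .i
    (by decide) (by decide) (by decide) (by decide) (by decide) (by decide) (by decide)
  exact comm_of_all (x := .l) fun y => h1 y (by cases y <;> decide)

def s24 : Fin 8 → Fi24.Gen := ![.l, .k, .a, .b, .c, .d, .e, .f]

theorem chain24 : Chain (fun i => (PresentedGroup.of (s24 i) : Spor.Fi24)) :=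
  chain (edges := Fi24.edges) (extra := Fi24.extra) s24 (by decide) (by decide) (by decide)

/-- real elements in the commutator subgroup -/
theorem hasReal_comm {G : Type*} [Group G] {n p : ℕ} (hp : p.Prime) (hn : 5 ≤ n) (f : Perm (Fin n) →* G)
    (hf : Function.Injective f) {x t : Perm (Fin n)} (hx : x ^ p = 1) (h1 : x ≠ 1) (ht : t * t = 1)
    (h : t * x * t⁻¹ = x⁻¹) (sx : sign x = 1) (st : sign t = 1) : HasReal p (commutator G) := by
  refine hasReal_of_inv_sq hp (x := ⟨f x, map_mem_commutator hn f sx⟩) (t := ⟨f t, map_mem_commutator hn f st⟩)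
    ?_ ?_ ?_ ?_
  · apply Subtype.ext
    rw [SubgroupClass.coe_pow, Subgroup.coe_mk, ← map_pow, hx, map_one]
    rfl
  · intro h2
    apply h1
    apply hf
    rw [map_one]
    exact congrArg Subtype.val h2
  · apply Subtype.ext
    change f t * f t = 1
    rw [← map_mul, ht, map_one]
  · apply Subtype.ext
    change f t * f x * (f t)⁻¹ = (f x)⁻¹
    rw [← map_mul, ← map_inv, ← map_mul, h, map_inv]

theorem nonab (hna : ¬ ∀ a b : Spor.Fi24', a * b = b * a) : ¬ ∀ a b : Spor.Fi24, a * b = b * a := by
  intro h
  exact hna fun a b => Subtype.ext (h _ _)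

theorem fi24_five (hna : ¬ ∀ a b : Spor.Fi24', a * b = b * a) : HasReal 5 Spor.Fi24' := by
  have hm : 4 ≤ 8 := by norm_num
  obtain ⟨f, -, hf⟩ := (chain24.castLE hm).hom' le_rfl 0 1 rfl rfl fun h => nonab hna (coll_fi24 h)
  obtain ⟨x, u, h1, h2, h3, h4, h5, h6⟩ := real_five
  exact hasReal_comm Nat.prime_five le_rfl f hf h1 h2 h3 h4 h5 h6

theorem fi24_seven (hna : ¬ ∀ a b : Spor.Fi24', a * b = b * a) : HasReal 7 Spor.Fi24' := by
  obtain ⟨f, -, hf⟩ := chain24.hom' (by norm_num) 0 1 rfl rfl fun h => nonab hna (coll_fi24 h)
  obtain ⟨h1, h2, h3, h4, h5, h6⟩ := real_nine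
  exact hasReal_comm Nat.prime_seven (by norm_num) f hf h1 h2 h3 h4 h5 h6

end fi24

/-! ### m -/

section m

open Cfsg.Spor.Bimonster

theorem coll_m (h : (PresentedGroup.of .f1 : Spor.Bimonster) = PresentedGroup.of .e1) :
    ∀ a b : Spor.Bimonster, a * b = b * a := by
  have h1 : Coll Bimonster.edges Bimonster.extra .f1 [.e1, .f1] := Coll.nil h.symm
  have h1 := h1.cons .f1 .e1 .d1
    (by decide) (by decide) (by decide) (by decide) (by decide) (by decide) (by decide)
  have h1 := h1.cons .f1 .d1 .c1
    (by decide) (by decide) (by decide) (by decide) (by decide) (by decide) (by decide)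
  have h1 := h1.cons .f1 .c1 .b1
    (by decide) (by decide) (by decide) (by decide) (by decide) (by decide) (by decide)
  have h1 := h1.cons .f1 .b1 .a
    (by decide) (by decide) (by decide) (by decide) (by decide) (by decide) (by decide)
  have h1 := h1.cons .f1 .a .b2
    (by decide) (by decide) (by decide) (by decide) (by decide) (by decide) (by decide)
  have h1 := h1.cons .f1 .b2 .c2
    (by decide) (by decide) (by decide) (by decide) (by decide) (by decide) (by decide)
  have h1 := h1.cons .f1 .c2 .d2
    (by decide) (by decide) (by decide) (by decide) (by decide) (by decide) (by decide)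
  have h1 := h1.cons .f1 .d2 .e2
    (by decide) (by decide) (by decide) (by decide) (by decide) (by decide) (by decide)
  have h1 := h1.cons .f1 .e2 .f2
    (by decide) (by decide) (by decide) (by decide) (by decide) (by decide) (by decide)
  have h1 := h1.cons .f1 .a .b3
    (by decide) (by decide) (by decide) (by decide) (by decide) (by decide) (by decide)
  have h1 := h1.cons .f1 .b3 .c3
    (by decide) (by decide) (by decide) (by decide) (by decide) (by decide) (by decide)
  have h1 := h1.cons .f1 .c3 .d3
    (by decide) (by decide) (by decide) (by decide) (by decide) (by decide) (by decide)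
  have h1 := h1.cons .f1 .d3 .e3
    (by decide) (by decide) (by decide) (by decide) (by decide) (by decide) (by decide)
  have h1 := h1.cons .f1 .e3 .f3
    (by decide) (by decide) (by decide) (by decide) (by decide) (by decide) (by decide)
  exact comm_of_all (x := .f1) fun y => h1 y (by cases y <;> decide)

def sM : Fin 11 → Bimonster.Gen := ![.f1, .e1, .d1, .c1, .b1, .a, .b2, .c2, .d2, .e2, .f2]

theorem chainM : Chain (fun i => (PresentedGroup.of (sM i) : Spor.Bimonster)) :=
  chain (edges := Bimonster.edges) (extra := Bimonster.extra) sM (by decide) (by decide) (by decide)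

/-- the transposition of the node `a` -/
def sa : Perm (Fin 12) := swap 5 6

/-- an element of order 5 -/
def x5 : Perm (Fin 12) := swap 0 1 * swap 1 2 * swap 2 3 * swap 3 4

def t5 : Perm (Fin 12) := swap 0 4 * swap 1 3

def x7 : Perm (Fin 12) := swap 0 1 * swap 1 2 * swap 2 3 * swap 3 4 * swap 4 7 * swap 7 8

def t7 : Perm (Fin 12) := swap 0 8 * swap 1 7 * swap 2 4 * swap 9 10

theorem real5 : x5 ^ 5 = 1 ∧ x5 ≠ 1 ∧ t5 * t5 = 1 ∧ t5 * x5 * t5⁻¹ = x5⁻¹ ∧ sign x5 = 1 ∧ sign t5 = 1 ∧
    sa * x5 = x5 * sa ∧ sa * t5 = t5 * sa := by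
  refine ⟨by decide +kernel, by decide +kernel, by decide +kernel, by decide +kernel, ?_, ?_, by decide +kernel,
    by decide +kernel⟩
  · unfold x5
    simp only [map_mul]
    rw [sign_swap (by decide), sign_swap (by decide), sign_swap (by decide), sign_swap (by decide)]
    decide
  · unfold t5
    simp only [map_mul]
    rw [sign_swap (by decide), sign_swap (by decide)]
    decide

theorem real7 : x7 ^ 7 = 1 ∧ x7 ≠ 1 ∧ t7 * t7 = 1 ∧ t7 * x7 * t7⁻¹ = x7⁻¹ ∧ sign x7 = 1 ∧ sign t7 = 1 ∧
    sa * x7 = x7 * sa ∧ sa * t7 = t7 * sa := by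
  refine ⟨by decide +kernel, by decide +kernel, by decide +kernel, by decide +kernel, ?_, ?_, by decide +kernel,
    by decide +kernel⟩
  · unfold x7
    simp only [map_mul]
    rw [sign_swap (by decide), sign_swap (by decide), sign_swap (by decide), sign_swap (by decide),
      sign_swap (by decide), sign_swap (by decide)]
    decide
  · unfold t7
    simp only [map_mul]
    rw [sign_swap (by decide), sign_swap (by decide), sign_swap (by decide), sign_swap (by decide)]
    decide

/-- real elements in the Monster -/
theorem hasReal_mon {p : ℕ} (hp : p.Prime) (f : Perm (Fin 12) →* Spor.Bimonster)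
    (hf : Function.Injective f) (ha : f sa = PresentedGroup.of .a) {x t : Perm (Fin 12)} (hx : x ^ p = 1)
    (h1 : x ≠ 1) (ht : t * t = 1) (h : t * x * t⁻¹ = x⁻¹) (sx : sign x = 1) (st : sign t = 1)
    (cx : sa * x = x * sa) (ct : sa * t = t * sa) : HasReal p Spor.Monster := by
  have hmem : ∀ y : Perm (Fin 12), sign y = 1 → sa * y = y * sa →
      f y ∈ Subgroup.centralizer {(PresentedGroup.of Bimonster.Gen.a : Spor.Bimonster)} ⊓
        commutator Spor.Bimonster := by
    intro y sy cy
    refine Subgroup.mem_inf.2 ⟨?_, map_mem_commutator (by norm_num) f sy⟩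
    rw [Subgroup.mem_centralizer_singleton_iff, ← ha, ← map_mul, ← map_mul, cy]
  refine hasReal_of_inv_sq hp (x := ⟨f x, hmem x sx cx⟩) (t := ⟨f t, hmem t st ct⟩) ?_ ?_ ?_ ?_
  · apply Subtype.ext
    rw [SubgroupClass.coe_pow, Subgroup.coe_mk, ← map_pow, hx, map_one]
    rfl
  · intro h2
    apply h1
    apply hf
    rw [map_one]
    exact congrArg Subtype.val h2
  · apply Subtype.ext
    change f t * f t = 1
    rw [← map_mul, ht, map_one]
  · apply Subtype.ext
    change f t * f x * (f t)⁻¹ = (f x)⁻¹
    rw [← map_mul, ← map_inv, ← map_mul, h, map_inv]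

theorem nonab_m (hna : ¬ ∀ a b : Spor.Monster, a * b = b * a) : ¬ ∀ a b : Spor.Bimonster, a * b = b * a := by
  intro h
  exact hna fun a b => Subtype.ext (h _ _)

theorem exists_hom_m (hna : ¬ ∀ a b : Spor.Monster, a * b = b * a) :
    ∃ f : Perm (Fin 12) →* Spor.Bimonster, Function.Injective f ∧ f sa = PresentedGroup.of .a := by
  obtain ⟨f, h1, h2⟩ := chainM.hom' (by norm_num) 0 1 rfl rfl fun h => nonab_m hna (coll_m h)
  exact ⟨f, h2, h1 5⟩

theorem m_five (hna : ¬ ∀ a b : Spor.Monster, a * b = b * a) : HasReal 5 Spor.Monster := by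
  obtain ⟨f, hf, ha⟩ := exists_hom_m hna
  obtain ⟨h1, h2, h3, h4, h5, h6, h7, h8⟩ := real5
  exact hasReal_mon Nat.prime_five f hf ha h1 h2 h3 h4 h5 h6 h7 h8

theorem m_seven (hna : ¬ ∀ a b : Spor.Monster, a * b = b * a) : HasReal 7 Spor.Monster := by
  obtain ⟨f, hf, ha⟩ := exists_hom_m hna
  obtain ⟨h1, h2, h3, h4, h5, h6, h7, h8⟩ := real7
  exact hasReal_mon Nat.prime_seven f hf ha h1 h2 h3 h4 h5 h6 h7 h8

end m

end Cfsg.Agent.H721.Cox
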