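import Cfsg.Agent.H721.CoMat
import Cfsg.Agent.H721.Cox
import Cfsg.Agent.MonsterX.KDone
import Cfsg.Agent.MonsterX.KModel
import Cfsg.Agent.MonsterP.Equiv

/-!
# Real elements of order 11 and 13 of the Monster (helper721)
-/

set_option autoImplicit false

namespace Cfsg.Agent.H721.Mon

open Cfsg Cfsg.Agent.MonsterX
open Cfsg.Agent.H722.RealP Cfsg.Agent.H721.Base Cfsg.Agent.H721.CoMat Cfsg.Agent.H721.CoM24

theorem involves_co1 : Lib.Involves.Involves ↥InstData.M.G Spor.Co1 := by
  obtain ⟨π, hπ, -⟩ := KModel.exists_quot KDone.K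
  exact ⟨KDone.K.K, π, hπ⟩

theorem of_co1 {p : ℕ} (hp : p.Prime) (hp2 : p ≠ 2) (h : HasReal p Spor.Co1) : HasReal p Spor.Monster := by
  have : Finite Spor.Monster := Nat.finite_of_card_ne_zero (by rw [MonsterP.Equiv.isM.2]; norm_num)
  obtain ⟨e⟩ := MonsterP.Equiv.equiv
  have := Fact.mk hp
  have : Finite ↥InstData.M.G := Finite.of_equiv _ e.toEquiv
  exact (h.of_involves hp2 involves_co1).map_equiv e.symm

theorem m_eleven : HasReal 11 Spor.Monster := of_co1 (by norm_num) (by norm_num) co1_eleven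

theorem m_thirteen : HasReal 13 Spor.Monster := of_co1 (by norm_num) (by norm_num) co1_thirteen

end Cfsg.Agent.H721.Mon
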