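import Cfsg.Agent.H721.Base
import Cfsg.Agent.S1693

/-!
# O'Nan's group has real elements of order 7 (helper721)
-/

set_option autoImplicit false

namespace Cfsg.Agent.H721.ONan

open Subgroup Matrix
open Cfsg.Agent.H722.RealP Cfsg.Agent.H721.Base
open Cfsg

def mX : Matrix (Fin 3) (Fin 3) (ZMod 7) := !![1, 0, 1; 0, 1, 0; 0, 0, 1]
def mT : Matrix (Fin 3) (Fin 3) (ZMod 7) := !![6, 0, 0; 0, 6, 0; 0, 0, 1]

theorem det_X : mX.det = 1 := by decide +kernel
theorem det_T : mT.det = 1 := by decide +kernel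

def X : SpecialLinearGroup (Fin 3) (ZMod 7) := ⟨mX, det_X⟩
def T : SpecialLinearGroup (Fin 3) (ZMod 7) := ⟨mT, det_T⟩

theorem X_pow : X ^ 7 = 1 :=
  Matrix.SpecialLinearGroup.ext _ _ fun i j => by
    have h : mX ^ 7 = 1 := by decide +kernel
    have h2 : ∀ n : ℕ, (X ^ n).1 = mX ^ n := fun n => by
      induction n with
      | zero => rfl
      | succ n ih =>
        rw [pow_succ, pow_succ, ← ih]
        rfl
    exact congrFun (congrFun ((h2 7).trans h) i) j

theorem T_sq : T * T = 1 := Subtype.ext (show mT * mT = 1 by decide +kernel)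

theorem TX : T * X * T⁻¹ = X⁻¹ := by
  have h1 : T * X * T * X = 1 := Subtype.ext (show mT * mX * mT * mX = 1 by decide +kernel)
  rw [inv_eq_of_mul_eq_one_left T_sq]
  exact eq_inv_of_mul_eq_one_left h1

theorem X_notMem : X ∉ center (SpecialLinearGroup (Fin 3) (ZMod 7)) := by
  intro h
  have h1 := mem_center_iff.1 h T
  have h2 : mT * mX = mX * mT := congrArg Subtype.val h1
  exact absurd h2 (by decide +kernel)

theorem on_seven : HasReal 7 Spor.ON := by
  obtain ⟨N, -, -, ⟨e⟩⟩ := S1693.result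
  have h1 : HasReal 7 (Matrix.ProjectiveSpecialLinearGroup (Fin 3) (ZMod 7)) := by
    refine hasReal_of_inv_sq Nat.prime_seven (x := (QuotientGroup.mk X : Matrix.ProjectiveSpecialLinearGroup (Fin 3) (ZMod 7)))
      (t := (QuotientGroup.mk T : Matrix.ProjectiveSpecialLinearGroup (Fin 3) (ZMod 7))) ?_ ?_ ?_ ?_
    · rw [← QuotientGroup.mk_pow, X_pow]; rfl
    · intro h
      exact X_notMem ((QuotientGroup.eq_one_iff _).1 h)
    · rw [← QuotientGroup.mk_mul, T_sq]; rfl
    · rw [← QuotientGroup.mk_inv, ← QuotientGroup.mk_mul, ← QuotientGroup.mk_mul, ← QuotientGroup.mk_inv, TX]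
  exact ((h1.map_equiv e.symm).of_subgroup).of_subgroup

end Cfsg.Agent.H721.ONan
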