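import Cfsg.Agent.H721.Cox
import Cfsg.Prelude.Def_Spor_Suz
import Cfsg.Prelude.Def_Spor_He
import Cfsg.Prelude.Def_Spor_HN
import Cfsg.Prelude.Def_Spor_Th
import Cfsg.Prelude.Def_Spor_Ly

/-!
# Real elements from presentations: Suz, He, HN, Th, Ly (helper721)
-/

set_option autoImplicit false
set_option linter.all false

namespace Cfsg.Agent.H721.Pres

open Subgroup
open Cfsg.Agent.H722.RealP Cfsg.Agent.H721.Base Cfsg.Agent.H721.Cox
open Cfsg.Spor

section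

variable {α : Type*} [DecidableEq α] {edges : List (α × ℕ × α)} {extra : List (FreeGroup α)}

/-- the `n`-th further relator -/
theorem ext (n : ℕ) (hn : n < extra.length) :
    PresentedGroup.mk (coxRelators edges ∪ {r | r ∈ extra}) extra[n] = 1 :=
  PresentedGroup.one_of_mem (Or.inr (List.getElem_mem hn))

/-- all generators are powers of one element -/
theorem comm_of_zpowers (x : CoxPresented α edges extra)
    (h : ∀ y : α, (PresentedGroup.of y : CoxPresented α edges extra) ∈ Subgroup.zpowers x) :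
    ∀ a b : CoxPresented α edges extra, a * b = b * a := by
  have hz : ∀ a : CoxPresented α edges extra, a ∈ Subgroup.zpowers x := by
    intro a
    have h1 : Subgroup.closure (Set.range (PresentedGroup.of : α → CoxPresented α edges extra)) = ⊤ :=
      PresentedGroup.closure_range_of _
    have h2 : (⊤ : Subgroup (CoxPresented α edges extra)) ≤ Subgroup.zpowers x := by
      rw [← h1, Subgroup.closure_le]
      rintro _ ⟨y, rfl⟩
      exact h y
    exact h2 (Subgroup.mem_top a)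
  intro a b
  obtain ⟨m, rfl⟩ := hz a
  obtain ⟨n, rfl⟩ := hz b
  exact (Commute.refl _).zpow_zpow m n

theorem comm_of_one (h : ∀ y : α, (PresentedGroup.of y : CoxPresented α edges extra) = 1) :
    ∀ a b : CoxPresented α edges extra, a * b = b * a :=
  comm_of_zpowers 1 fun y => by rw [h y]; exact one_mem _

end

theorem one_of_two_three {G : Type*} [Group G] {x : G} (h2 : x ^ 2 = 1) (h3 : x ^ 3 = 1) : x = 1 := by
  rw [pow_succ, h2, one_mul] at h3; exact h3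

/-! ### Suz -/

theorem suz_aux {G : Type*} [Group G] {a b c d e f g : G} (a2 : a * a = 1) (c2 : c * c = 1) (d2 : d * d = 1)
    (e2 : e * e = 1) (f2 : f * f = 1) (g2 : g * g = 1) (bc : (b * c) ^ 3 = 1) (ac : a * c = c * a)
    (bf : (b * f) ^ 3 = 1) (af : a * f = f * a) (gb : (g * b) ^ 3 = 1) (ag : a * g = g * a) (ad : a * d = d * a)
    (de : (d * e) ^ 3 = 1) (r1 : a * ((c * d) ^ 4)⁻¹ = 1) (r5 : ((b * c * d * c * d) ^ 5 * e) ^ 3 = 1)
    (hab : a = b) : a = 1 ∧ b = 1 ∧ c = 1 ∧ d = 1 ∧ e = 1 ∧ f = 1 ∧ g = 1 := by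
  subst hab
  have hc : a = c := eq_of_braid a2 c2 bc ac
  have hf : a = f := eq_of_braid a2 f2 bf af
  have hg : g = a := eq_of_braid g2 a2 gb ag.symm
  subst hc hf hg
  have ha : g = 1 := by
    have h1 : (g * d) ^ 4 = 1 := by
      rw [(show Commute g d from ad).mul_pow]
      rw [show (4 : ℕ) = 2 * 2 from rfl, pow_mul, pow_mul, pow_two g, pow_two d, a2, d2]
      simp
    rw [h1, inv_one, mul_one] at r1
    exact r1
  subst ha
  have he : e = 1 := by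
    have h1 : ((1 : G) * 1 * d * 1 * d) ^ 5 = 1 := by
      simp only [one_mul, mul_one, d2, one_pow]
    rw [h1, one_mul] at r5
    exact one_of_two_three (by rw [pow_two, e2]) r5
  subst he
  rw [mul_one] at de
  have hd := one_of_two_three (by rw [pow_two, d2]) de
  exact ⟨rfl, rfl, rfl, hd, rfl, rfl, rfl⟩

theorem suz_five (hna : ¬ ∀ a b : Spor.Suz, a * b = b * a) : HasReal 5 Spor.Suz := by
  have S := fun {x : Suz.Gen} => sq (edges := Suz.edges) (extra := Suz.extra) (x := x)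
  have R := fun {x y : Suz.Gen} {m : ℕ} => rel (edges := Suz.edges) (extra := Suz.extra) (x := x) (y := y) (m := m)
  have C : ∀ {x y : Suz.Gen}, x ∈ coxNodes Suz.edges → y ∈ coxNodes Suz.edges → coxLabel Suz.edges x y = 2 →
      (PresentedGroup.of x : Spor.Suz) * PresentedGroup.of y = PresentedGroup.of y * PresentedGroup.of x :=
    fun hx hy h => comm_of_sq (S hx) (S hy) (R hx hy h)
  refine hasReal_of_pair (u := PresentedGroup.of Suz.Gen.a) (v := PresentedGroup.of Suz.Gen.b) Nat.prime_five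
    (S (by decide)) (S (by decide)) (R (by decide) (by decide) (by decide)) fun hab => hna ?_
  have r1 : PresentedGroup.mk (coxRelators Suz.edges ∪ {r | r ∈ Suz.extra})
      (Suz.a * ((Suz.c * Suz.d) ^ 4)⁻¹) = 1 := ext 0 (by decide)
  simp only [map_mul, map_inv, map_pow] at r1
  have r5 : PresentedGroup.mk (coxRelators Suz.edges ∪ {r | r ∈ Suz.extra})
      (((Suz.b * Suz.c * Suz.d * Suz.c * Suz.d) ^ 5 * Suz.e) ^ 3) = 1 := ext 4 (by decide)
  simp only [map_mul, map_inv, map_pow] at r5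
  obtain ⟨h1, h2, h3, h4, h5, h6, h7⟩ := suz_aux (S (x := Suz.Gen.a) (by decide)) (S (x := Suz.Gen.c) (by decide))
    (S (x := Suz.Gen.d) (by decide)) (S (x := Suz.Gen.e) (by decide)) (S (x := Suz.Gen.f) (by decide))
    (S (x := Suz.Gen.g) (by decide)) (R (x := Suz.Gen.b) (by decide) (by decide) (by decide))
    (C (by decide) (by decide) (by decide)) (R (by decide) (by decide) (by decide))
    (C (by decide) (by decide) (by decide)) (R (by decide) (by decide) (by decide))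
    (C (by decide) (by decide) (by decide)) (C (by decide) (by decide) (by decide))
    (R (by decide) (by decide) (by decide)) r1 r5 hab
  refine comm_of_one fun y => ?_
  cases y
  · exact h1
  · exact h2
  · exact h3
  · exact h4
  · exact h5
  · exact h6
  · exact h7

/-! ### He -/

theorem he_aux {G : Type*} [Group G] {a b c d e f g : G} (a2 : a * a = 1) (b2 : b * b = 1) (c2 : c * c = 1)
    (d2 : d * d = 1) (e2 : e * e = 1) (f2 : f * f = 1) (g2 : g * g = 1) (ab : (a * b) ^ 4 = 1)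
    (bc : (b * c) ^ 3 = 1) (bd : b * d = d * b) (ad : a * d = d * a) (af : a * f = f * a)
    (ag : a * g = g * a) (de : (d * e) ^ 3 = 1) (df : (d * f) ^ 3 = 1) (gd : (g * d) ^ 3 = 1)
    (r1 : e * ((f * g) ^ 2)⁻¹ = 1) (r2 : e * ((a * b * c) ^ 3)⁻¹ = 1) (r3 : a * ((c * d) ^ 5)⁻¹ = 1)
    (h : (c * d) ^ 2 = 1) : a = 1 ∧ b = 1 ∧ c = 1 ∧ d = 1 ∧ e = 1 ∧ f = 1 ∧ g = 1 := by
  have cd : c * d = d * c := comm_of_sq c2 d2 h
  have ha : a = c * d := by
    rw [show (5 : ℕ) = 2 + 2 + 1 from rfl, pow_succ, pow_add, h, one_mul, one_mul] at r3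
    exact eq_of_mul_inv_eq_one r3
  have hcb : c = b := by
    have h1 : (c * b) ^ 4 = 1 := by
      have e1 : a * b = (c * b) * d := by rw [ha, mul_assoc, ← bd, mul_assoc]
      have hcm : Commute (c * b) d := by
        have h3 : Commute c d := cd
        have h4 : Commute b d := bd
        exact h3.mul_left h4
      rw [e1, hcm.mul_pow, show (4 : ℕ) = 2 * 2 from rfl, pow_mul d, pow_two d, d2, one_pow, mul_one] at ab
      exact ab
    have h2 : (c * b) ^ 3 = 1 := by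
      have : c * b = (b * c)⁻¹ := by
        rw [mul_inv_rev, inv_eq_of_mul_eq_one_left b2, inv_eq_of_mul_eq_one_left c2]
      rw [this, inv_pow, bc, inv_one]
    have h3 : c * b = 1 := by rw [pow_succ, h2, one_mul] at h1; exact h1
    rw [mul_eq_one_iff_eq_inv, inv_eq_of_mul_eq_one_left b2] at h3
    exact h3
  subst hcb
  have hea : e = a := by
    have h1 : (a * c * c) ^ 3 = a := by
      rw [mul_assoc, c2, mul_one, pow_succ, pow_two, a2, one_mul]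
    rw [h1] at r2
    exact eq_of_mul_inv_eq_one r2
  subst hea
  have hde : d = e := eq_of_braid d2 e2 de ad.symm
  subst hde
  have hc : c = 1 := by
    have : c * d = 1 * d := by rw [one_mul]; exact ha.symm
    exact mul_right_cancel this
  have hf : d = f := eq_of_braid d2 f2 df af
  subst hf
  have hg : g = d := eq_of_braid g2 d2 gd ag.symm
  subst hg
  have hd : g = 1 := by
    rw [g2, one_pow, inv_one, mul_one] at r1
    exact r1
  exact ⟨hd, hc, hc, hd, hd, hd, hd⟩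

theorem he_five (hna : ¬ ∀ a b : Spor.He, a * b = b * a) : HasReal 5 Spor.He := by
  have S := fun {x : He.Gen} => sq (edges := He.edges) (extra := He.extra) (x := x)
  have R := fun {x y : He.Gen} {m : ℕ} => rel (edges := He.edges) (extra := He.extra) (x := x) (y := y) (m := m)
  have C : ∀ {x y : He.Gen}, x ∈ coxNodes He.edges → y ∈ coxNodes He.edges → coxLabel He.edges x y = 2 →
      (PresentedGroup.of x : Spor.He) * PresentedGroup.of y = PresentedGroup.of y * PresentedGroup.of x :=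
    fun hx hy h => comm_of_sq (S hx) (S hy) (R hx hy h)
  have h10 : ((PresentedGroup.of He.Gen.c : Spor.He) * PresentedGroup.of He.Gen.d) ^ 10 = 1 :=
    R (by decide) (by decide) (by decide)
  have c2 : (PresentedGroup.of He.Gen.c : Spor.He) * PresentedGroup.of He.Gen.c = 1 := S (by decide)
  have d2 : (PresentedGroup.of He.Gen.d : Spor.He) * PresentedGroup.of He.Gen.d = 1 := S (by decide)
  refine hasReal_of_inv_sq Nat.prime_five
    (x := ((PresentedGroup.of He.Gen.c : Spor.He) * PresentedGroup.of He.Gen.d) ^ 2)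
    (t := PresentedGroup.of He.Gen.c) (by rw [← pow_mul]; exact h10) (fun h => hna ?_) c2 ?_
  · have r1 : PresentedGroup.mk (coxRelators He.edges ∪ {r | r ∈ He.extra})
        (He.e * ((He.f * He.g) ^ 2)⁻¹) = 1 := ext 0 (by decide)
    simp only [map_mul, map_inv, map_pow] at r1
    have r2 : PresentedGroup.mk (coxRelators He.edges ∪ {r | r ∈ He.extra})
        (He.e * ((He.a * He.b * He.c) ^ 3)⁻¹) = 1 := ext 1 (by decide)
    simp only [map_mul, map_inv, map_pow] at r2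
    have r3 : PresentedGroup.mk (coxRelators He.edges ∪ {r | r ∈ He.extra})
        (He.a * ((He.c * He.d) ^ 5)⁻¹) = 1 := ext 2 (by decide)
    simp only [map_mul, map_inv, map_pow] at r3
    obtain ⟨h1, h2, h3, h4, h5, h6, h7⟩ := he_aux (S (x := He.Gen.a) (by decide)) (S (x := He.Gen.b) (by decide))
      c2 d2 (S (x := He.Gen.e) (by decide)) (S (x := He.Gen.f) (by decide))
      (S (x := He.Gen.g) (by decide)) (R (by decide) (by decide) (by decide))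
      (R (by decide) (by decide) (by decide)) (C (by decide) (by decide) (by decide))
      (C (by decide) (by decide) (by decide)) (C (by decide) (by decide) (by decide))
      (C (by decide) (by decide) (by decide)) (R (by decide) (by decide) (by decide))
      (R (by decide) (by decide) (by decide)) (R (by decide) (by decide) (by decide)) r1 r2 r3 h
    refine comm_of_one fun y => ?_
    cases y
    · exact h1
    · exact h2
    · exact h3
    · exact h4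
    · exact h5
    · exact h6
    · exact h7
  · have hc := inv_eq_of_mul_eq_one_left c2
    have hd := inv_eq_of_mul_eq_one_left d2
    rw [← conj_pow, ← inv_pow]
    congr 1
    rw [mul_inv_rev, hc, hd, ← mul_assoc, c2, one_mul]

/-! ### HN -/

theorem conj_aux {G : Type*} [Group G] {x t : G} (e : x⁻¹ * t * x = (t ^ 2)⁻¹) (h5 : t ^ 5 = 1) :
    x⁻¹ ^ 2 * t * (x⁻¹ ^ 2)⁻¹ = t⁻¹ := by
  have e1 : x⁻¹ * (t ^ 2)⁻¹ * x = t ^ 4 := by
    calc x⁻¹ * (t ^ 2)⁻¹ * x = ((x⁻¹ * t * x) * (x⁻¹ * t * x))⁻¹ := by rw [pow_two]; group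
      _ = t ^ 4 := by rw [e]; group
  calc x⁻¹ ^ 2 * t * (x⁻¹ ^ 2)⁻¹ = x⁻¹ * (x⁻¹ * t * x) * x := by
        simp only [pow_two, mul_inv_rev, inv_inv, mul_assoc]
    _ = t ^ 4 := by rw [e, e1]
    _ = t⁻¹ := by
      rw [eq_inv_iff_mul_eq_one, ← pow_succ]
      exact h5

theorem conj_aux2 {G : Type*} [Group G] {a c1 c2 : G} (e1 : a⁻¹ * c1 * a = c2) (e2 : a⁻¹ * c2 * a = (c1 ^ 2)⁻¹)
    (h5 : c1 ^ 5 = 1) : a⁻¹ ^ 4 * c1 * (a⁻¹ ^ 4)⁻¹ = c1⁻¹ := by
  have e3 : a⁻¹ * a⁻¹ * c1 * a * a = (c1 ^ 2)⁻¹ := by rw [← e2, ← e1]; group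
  have e4 : a⁻¹ * a⁻¹ * (c1 ^ 2)⁻¹ * a * a = c1 ^ 4 := by
    calc a⁻¹ * a⁻¹ * (c1 ^ 2)⁻¹ * a * a =
        ((a⁻¹ * a⁻¹ * c1 * a * a) * (a⁻¹ * a⁻¹ * c1 * a * a))⁻¹ := by
          simp only [pow_two, mul_inv_rev, inv_inv, mul_assoc, mul_inv_cancel_left, inv_mul_cancel_left]
      _ = c1 ^ 4 := by rw [e3]; group
  calc a⁻¹ ^ 4 * c1 * (a⁻¹ ^ 4)⁻¹ = a⁻¹ * a⁻¹ * (a⁻¹ * a⁻¹ * c1 * a * a) * a * a := by
        simp only [pow_succ, pow_zero, one_mul, mul_inv_rev, inv_inv, mul_assoc]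
    _ = c1 ^ 4 := by rw [e3, e4]
    _ = c1⁻¹ := by
      rw [eq_inv_iff_mul_eq_one, ← pow_succ]
      exact h5

theorem hn_aux {G : Type*} [Group G] {x y z t : G} (r0 : y ^ 6 = 1)
    (r3 : ((x⁻¹) * (y ^ 2) * x * (y ^ 3)) ^ 3 = 1) (r4 : (x * y) ^ 8 = 1) (r6 : z ^ 2 = 1)
    (r8 : (z⁻¹ * (y * x * y * x * (y ^ 2) * x * (y⁻¹))⁻¹ * z * (y * x * y * x * (y ^ 2) * x * (y⁻¹))) * ((x ^ 2)⁻¹) = 1)
    (r9 : z * (((((y ^ 3) * x * y * x * y)⁻¹ * z * ((y ^ 3) * x * y * x * y)) * x) ^ 3) = 1)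
    (r13 : (z * t) ^ 3 = 1) (ht : t = 1) : x = 1 ∧ y = 1 ∧ z = 1 := by
  subst ht
  rw [mul_one] at r13
  have hz : z = 1 := one_of_two_three r6 r13
  subst hz
  have hx2 : x ^ 2 = 1 := by
    rw [inv_one, one_mul, mul_one, inv_mul_cancel, one_mul] at r8
    exact inv_eq_one.1 r8
  have hx3 : x ^ 3 = 1 := by
    rw [one_mul, mul_one, inv_mul_cancel, one_mul] at r9
    exact r9
  have hx : x = 1 := one_of_two_three hx2 hx3
  subst hx
  rw [one_mul] at r4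
  have hy2 : y ^ 2 = 1 := by
    rw [show (8 : ℕ) = 6 + 2 from rfl, pow_add, r0, one_mul] at r4
    exact r4
  have hy3 : y ^ 3 = 1 := by
    have : (y ^ 3) ^ 3 = 1 := by simpa [hy2] using r3
    rw [← pow_mul, show 3 * 3 = 6 + 3 from rfl, pow_add, r0, one_mul] at this
    exact this
  exact ⟨rfl, one_of_two_three hy2 hy3, rfl⟩

theorem hn_five [Finite Spor.HN] (hna : ¬ ∀ a b : Spor.HN, a * b = b * a) : HasReal 5 Spor.HN := by
  have r0 : PresentedGroup.mk (coxRelators HN.edges ∪ {r | r ∈ HN.extra})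
      (HN.y ^ 6) = 1 := ext 0 (by decide)
  simp only [map_mul, map_inv, map_pow] at r0
  have r3 : PresentedGroup.mk (coxRelators HN.edges ∪ {r | r ∈ HN.extra})
      (((HN.x⁻¹) * (HN.y ^ 2) * HN.x * (HN.y ^ 3)) ^ 3) = 1 := ext 3 (by decide)
  simp only [map_mul, map_inv, map_pow] at r3
  have r4 : PresentedGroup.mk (coxRelators HN.edges ∪ {r | r ∈ HN.extra})
      ((HN.x * HN.y) ^ 8) = 1 := ext 4 (by decide)
  simp only [map_mul, map_inv, map_pow] at r4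
  have r6 : PresentedGroup.mk (coxRelators HN.edges ∪ {r | r ∈ HN.extra})
      (HN.z ^ 2) = 1 := ext 6 (by decide)
  simp only [map_mul, map_inv, map_pow] at r6
  have r8 : PresentedGroup.mk (coxRelators HN.edges ∪ {r | r ∈ HN.extra})
      ((HN.z⁻¹ * (HN.y * HN.x * HN.y * HN.x * (HN.y ^ 2) * HN.x * (HN.y⁻¹))⁻¹ * HN.z * (HN.y * HN.x * HN.y * HN.x * (HN.y ^ 2) * HN.x * (HN.y⁻¹))) * ((HN.x ^ 2)⁻¹)) = 1 := ext 8 (by decide)
  simp only [map_mul, map_inv, map_pow] at r8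
  have r9 : PresentedGroup.mk (coxRelators HN.edges ∪ {r | r ∈ HN.extra})
      (HN.z * (((((HN.y ^ 3) * HN.x * HN.y * HN.x * HN.y)⁻¹ * HN.z * ((HN.y ^ 3) * HN.x * HN.y * HN.x * HN.y)) * HN.x) ^ 3)) = 1 := ext 9 (by decide)
  simp only [map_mul, map_inv, map_pow] at r9
  have r10 : PresentedGroup.mk (coxRelators HN.edges ∪ {r | r ∈ HN.extra})
      (HN.t ^ 5) = 1 := ext 10 (by decide)
  simp only [map_mul, map_inv, map_pow] at r10
  have r11 : PresentedGroup.mk (coxRelators HN.edges ∪ {r | r ∈ HN.extra})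
      ((HN.x⁻¹ * HN.t * HN.x) * (HN.t ^ 2)) = 1 := ext 11 (by decide)
  simp only [map_mul, map_inv, map_pow] at r11
  have r13 : PresentedGroup.mk (coxRelators HN.edges ∪ {r | r ∈ HN.extra})
      ((HN.z * HN.t) ^ 3) = 1 := ext 13 (by decide)
  simp only [map_mul, map_inv, map_pow] at r13
  refine hasReal_of_inv Nat.prime_five (x := (PresentedGroup.of HN.Gen.t : Spor.HN))
    (t := ((PresentedGroup.of HN.Gen.x : Spor.HN)⁻¹) ^ 2) r10 (fun ht => hna ?_) ?_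
  · obtain ⟨h1, h2, h3⟩ := hn_aux r0 r3 r4 r6 r8 r9 r13 ht
    refine comm_of_one fun y => ?_
    cases y
    · exact h1
    · exact h2
    · exact h3
    · exact ht
  · have h5 : (PresentedGroup.of HN.Gen.t : Spor.HN) ^ 5 = 1 := r10
    have e : (PresentedGroup.of HN.Gen.x : Spor.HN)⁻¹ * PresentedGroup.of HN.Gen.t * PresentedGroup.of HN.Gen.x =
        (PresentedGroup.of HN.Gen.t ^ 2)⁻¹ := eq_inv_of_mul_eq_one_left r11
    exact conj_aux e h5

/-! ### Th -/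

theorem th_aux {G : Type*} [Group G] {a b c d e s t u : G} (b2 : b ^ 2 = 1) (c2 : c ^ 2 = 1) (d2 : d ^ 2 = 1)
    (ab : (a * b) ^ 3 = 1) (bc : (b * c) ^ 3 = 1) (cd : a * (((c * d) ^ 4)⁻¹) = 1) (de : (d * e) ^ 3 = 1)
    (es : (e⁻¹ * s⁻¹ * e * s) * (((s ^ 3)⁻¹ * e * (s ^ 3))⁻¹) = 1) (t3 : t ^ 3 = 1)
    (u2 : (u ^ 2) * ((a * c)⁻¹) = 1) (tu : (u⁻¹ * t * u) * ((t⁻¹)⁻¹) = 1)
    (us : (a * c) * (((u * s) ^ 3)⁻¹) = 1) (hs : s = 1) :
    a = 1 ∧ b = 1 ∧ c = 1 ∧ d = 1 ∧ e = 1 ∧ t = 1 ∧ u = 1 := by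
  subst hs
  have he : e = 1 := by simpa using es
  subst he
  rw [mul_one] at de
  have hd := one_of_two_three d2 de
  subst hd
  have ha : a = 1 := by
    rw [mul_one, show (4 : ℕ) = 2 * 2 from rfl, pow_mul, c2, one_pow, inv_one, mul_one] at cd
    exact cd
  subst ha
  rw [one_mul] at ab
  have hb := one_of_two_three b2 ab
  subst hb
  rw [one_mul] at bc
  have hc := one_of_two_three c2 bc
  subst hc
  have hu2 : u ^ 2 = 1 := by simpa using u2
  have hu3 : u ^ 3 = 1 := by simpa using us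
  have hu := one_of_two_three hu2 hu3
  subst hu
  have ht2 : t ^ 2 = 1 := by rw [pow_two]; simpa using tu
  exact ⟨rfl, rfl, rfl, rfl, rfl, one_of_two_three ht2 t3, rfl⟩

theorem th_seven (hna : ¬ ∀ a b : Spor.Th, a * b = b * a) : HasReal 7 Spor.Th := by
  have r1 : PresentedGroup.mk (coxRelators Th.edges ∪ {r | r ∈ Th.extra})
      (Th.b ^ 2) = 1 := ext 1 (by decide)
  simp only [map_mul, map_inv, map_pow] at r1
  have r2 : PresentedGroup.mk (coxRelators Th.edges ∪ {r | r ∈ Th.extra})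
      (Th.c ^ 2) = 1 := ext 2 (by decide)
  simp only [map_mul, map_inv, map_pow] at r2
  have r3 : PresentedGroup.mk (coxRelators Th.edges ∪ {r | r ∈ Th.extra})
      (Th.d ^ 2) = 1 := ext 3 (by decide)
  simp only [map_mul, map_inv, map_pow] at r3
  have r5 : PresentedGroup.mk (coxRelators Th.edges ∪ {r | r ∈ Th.extra})
      ((Th.a * Th.b) ^ 3) = 1 := ext 5 (by decide)
  simp only [map_mul, map_inv, map_pow] at r5
  have r7 : PresentedGroup.mk (coxRelators Th.edges ∪ {r | r ∈ Th.extra})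
      ((Th.b * Th.c) ^ 3) = 1 := ext 7 (by decide)
  simp only [map_mul, map_inv, map_pow] at r7
  have r10 : PresentedGroup.mk (coxRelators Th.edges ∪ {r | r ∈ Th.extra})
      (Th.a * (((Th.c * Th.d) ^ 4)⁻¹)) = 1 := ext 10 (by decide)
  simp only [map_mul, map_inv, map_pow] at r10
  have r12 : PresentedGroup.mk (coxRelators Th.edges ∪ {r | r ∈ Th.extra})
      ((Th.d * Th.e) ^ 3) = 1 := ext 12 (by decide)
  simp only [map_mul, map_inv, map_pow] at r12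
  have r14 : PresentedGroup.mk (coxRelators Th.edges ∪ {r | r ∈ Th.extra})
      (Th.s ^ 7) = 1 := ext 14 (by decide)
  simp only [map_mul, map_inv, map_pow] at r14
  have r18 : PresentedGroup.mk (coxRelators Th.edges ∪ {r | r ∈ Th.extra})
      ((Th.s * Th.d) ^ 2) = 1 := ext 18 (by decide)
  simp only [map_mul, map_inv, map_pow] at r18
  have r19 : PresentedGroup.mk (coxRelators Th.edges ∪ {r | r ∈ Th.extra})
      ((Th.e⁻¹ * Th.s⁻¹ * Th.e * Th.s) * (((Th.s ^ 3)⁻¹ * Th.e * (Th.s ^ 3))⁻¹)) = 1 := ext 19 (by decide)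
  simp only [map_mul, map_inv, map_pow] at r19
  have r20 : PresentedGroup.mk (coxRelators Th.edges ∪ {r | r ∈ Th.extra})
      (Th.t ^ 3) = 1 := ext 20 (by decide)
  simp only [map_mul, map_inv, map_pow] at r20
  have r27 : PresentedGroup.mk (coxRelators Th.edges ∪ {r | r ∈ Th.extra})
      ((Th.u ^ 2) * ((Th.a * Th.c)⁻¹)) = 1 := ext 27 (by decide)
  simp only [map_mul, map_inv, map_pow] at r27
  have r34 : PresentedGroup.mk (coxRelators Th.edges ∪ {r | r ∈ Th.extra})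
      ((Th.u⁻¹ * Th.t * Th.u) * ((Th.t⁻¹)⁻¹)) = 1 := ext 34 (by decide)
  simp only [map_mul, map_inv, map_pow] at r34
  have r36 : PresentedGroup.mk (coxRelators Th.edges ∪ {r | r ∈ Th.extra})
      ((Th.a * Th.c) * (((Th.u * Th.s) ^ 3)⁻¹)) = 1 := ext 36 (by decide)
  simp only [map_mul, map_inv, map_pow] at r36
  have d2 : (PresentedGroup.of Th.Gen.d : Spor.Th) * PresentedGroup.of Th.Gen.d = 1 := by
    rw [← pow_two]; exact r3
  refine hasReal_of_inv_sq Nat.prime_seven (x := (PresentedGroup.of Th.Gen.s : Spor.Th))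
    (t := (PresentedGroup.of Th.Gen.d : Spor.Th)) r14 (fun hs => hna ?_) d2 ?_
  · obtain ⟨h1, h2, h3, h4, h5, h6, h7⟩ := th_aux r1 r2 r3 r5 r7 r10 r12 r19 r20 r27 r34 r36 hs
    refine comm_of_one fun y => ?_
    cases y
    · exact h1
    · exact h2
    · exact h3
    · exact h4
    · exact h5
    · exact hs
    · exact h6
    · exact h7
  · have e : ((PresentedGroup.of Th.Gen.s : Spor.Th) * PresentedGroup.of Th.Gen.d) *
        (PresentedGroup.of Th.Gen.s * PresentedGroup.of Th.Gen.d) = 1 := by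
      rw [← pow_two]; exact r18
    generalize (PresentedGroup.of Th.Gen.s : Spor.Th) = s at e ⊢
    generalize (PresentedGroup.of Th.Gen.d : Spor.Th) = d at e d2 ⊢
    rw [inv_eq_of_mul_eq_one_left d2, eq_inv_iff_mul_eq_one]
    calc d * s * d * s = d * (s * d * (s * d)) * d := by
          calc d * s * d * s = d * s * d * s * (d * d) := by rw [d2, mul_one]
            _ = _ := by simp only [mul_assoc]
      _ = 1 := by rw [e, mul_one, d2]

/-! ### Ly -/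

theorem ly_aux {G : Type*} [Group G] {a b c d z e c1 c2 c3 c4 c5 u : G} (r1 : b ^ 5 = 1) (r2 : (a * b) ^ 4 = 1)
    (c10 : c1 * (c⁻¹) = 1) (c20 : c2 * ((a⁻¹ * c * a)⁻¹) = 1) (c30 : c3 * ((b⁻¹ * c * b)⁻¹) = 1)
    (c40 : c4 * (((b⁻¹)⁻¹ * c * (b⁻¹))⁻¹) = 1) (c50 : c5 * ((c1⁻¹ * c2⁻¹ * c1 * c2)⁻¹) = 1)
    (e2 : e ^ 2 = 1) (r30 : (e⁻¹ * c1 * e) * ((b * c3 * b * (c1⁻¹))⁻¹) = 1)
    (r34 : (e * (a ^ 2) * e) * ((a * (b ^ 2) * a * (b⁻¹) * a * c1 * c5 * (c4⁻¹))⁻¹) = 1)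
    (r37 : e * c2 * e * (c2⁻¹) * e * c2 * (c4⁻¹) * a * c3 * (a ^ 3) = 1)
    (r38 : d * ((a * (b ^ 2) * (a⁻¹) * (b⁻¹) * (c1⁻¹) * (c4⁻¹) * (c5⁻¹) * a * e * a * e * a * (c2⁻¹) * b * e)⁻¹) = 1)
    (u0 : u * ((a ^ 2)⁻¹) = 1) (hc : c1 = 1) :
    a = 1 ∧ b = 1 ∧ c = 1 ∧ d = 1 ∧ e = 1 ∧ c1 = 1 ∧ c2 = 1 ∧ c3 = 1 ∧ c4 = 1 ∧ c5 = 1 ∧ u = 1 := by
  subst hc
  have h : c = 1 := by simpa using c10
  subst h
  have h : c2 = 1 := by simpa using c20
  subst h
  have h : c3 = 1 := by simpa using c30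
  subst h
  have h : c4 = 1 := by simpa using c40
  subst h
  have h : c5 = 1 := by simpa using c50
  subst h
  have hb2 : b ^ 2 = 1 := by
    have h1 : b⁻¹ * b⁻¹ = 1 := by simpa [mul_assoc] using r30
    have h2 := congrArg (fun x => x⁻¹) h1
    simp only [mul_inv_rev, inv_inv, inv_one] at h2
    rw [pow_two, h2]
  have hb : b = 1 := by
    rw [show (5 : ℕ) = 2 + 2 + 1 from rfl, pow_succ, pow_add, hb2, one_mul, one_mul] at r1
    exact r1
  subst hb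
  rw [mul_one] at r2
  have ee : e * e = 1 := by rw [← pow_two]; exact e2
  have e3 : e * a * a ^ 3 = 1 := by
    have h1 : e * e * e * a * a ^ 3 = 1 := by simpa [mul_assoc] using r37
    rw [ee, one_mul] at h1
    exact h1
  have he : e = 1 := by
    rw [mul_assoc, ← pow_succ', r2, mul_one] at e3
    exact e3
  subst he
  have ha : a = 1 := by
    have h1 : a ^ 2 = a * a * a := by
      have : a ^ 2 * (a * a * a)⁻¹ = 1 := by simpa [mul_assoc] using r34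
      exact eq_of_mul_inv_eq_one this
    rw [pow_two] at h1
    exact (mul_eq_left.1 h1.symm)
  subst ha
  have hd : d = 1 := by simpa using r38
  have hu : u = 1 := by simpa using u0
  exact ⟨rfl, rfl, rfl, hd, rfl, rfl, rfl, rfl, rfl, rfl, hu⟩

theorem ly_five [Finite Spor.Ly] (hna : ¬ ∀ a b : Spor.Ly, a * b = b * a) : HasReal 5 Spor.Ly := by
  have r1 : PresentedGroup.mk (coxRelators Ly.edges ∪ {r | r ∈ Ly.extra})
      (Ly.b ^ 5) = 1 := ext 1 (by decide)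
  simp only [map_mul, map_inv, map_pow] at r1
  have r2 : PresentedGroup.mk (coxRelators Ly.edges ∪ {r | r ∈ Ly.extra})
      ((Ly.a * Ly.b) ^ 4) = 1 := ext 2 (by decide)
  simp only [map_mul, map_inv, map_pow] at r2
  have r5 : PresentedGroup.mk (coxRelators Ly.edges ∪ {r | r ∈ Ly.extra})
      (Ly.c1 * (Ly.c⁻¹)) = 1 := ext 5 (by decide)
  simp only [map_mul, map_inv, map_pow] at r5
  have r6 : PresentedGroup.mk (coxRelators Ly.edges ∪ {r | r ∈ Ly.extra})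
      (Ly.c2 * ((Ly.a⁻¹ * Ly.c * Ly.a)⁻¹)) = 1 := ext 6 (by decide)
  simp only [map_mul, map_inv, map_pow] at r6
  have r7 : PresentedGroup.mk (coxRelators Ly.edges ∪ {r | r ∈ Ly.extra})
      (Ly.c3 * ((Ly.b⁻¹ * Ly.c * Ly.b)⁻¹)) = 1 := ext 7 (by decide)
  simp only [map_mul, map_inv, map_pow] at r7
  have r8 : PresentedGroup.mk (coxRelators Ly.edges ∪ {r | r ∈ Ly.extra})
      (Ly.c4 * (((Ly.b⁻¹)⁻¹ * Ly.c * (Ly.b⁻¹))⁻¹)) = 1 := ext 8 (by decide)
  simp only [map_mul, map_inv, map_pow] at r8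
  have r9 : PresentedGroup.mk (coxRelators Ly.edges ∪ {r | r ∈ Ly.extra})
      (Ly.c5 * ((Ly.c1⁻¹ * Ly.c2⁻¹ * Ly.c1 * Ly.c2)⁻¹)) = 1 := ext 9 (by decide)
  simp only [map_mul, map_inv, map_pow] at r9
  have r10 : PresentedGroup.mk (coxRelators Ly.edges ∪ {r | r ∈ Ly.extra})
      (Ly.c1 ^ 5) = 1 := ext 10 (by decide)
  simp only [map_mul, map_inv, map_pow] at r10
  have r21 : PresentedGroup.mk (coxRelators Ly.edges ∪ {r | r ∈ Ly.extra})
      ((Ly.a⁻¹ * Ly.c2 * Ly.a) * (((Ly.c1 ^ 2)⁻¹)⁻¹)) = 1 := ext 21 (by decide)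
  simp only [map_mul, map_inv, map_pow] at r21
  have r29 : PresentedGroup.mk (coxRelators Ly.edges ∪ {r | r ∈ Ly.extra})
      (Ly.e ^ 2) = 1 := ext 29 (by decide)
  simp only [map_mul, map_inv, map_pow] at r29
  have r30 : PresentedGroup.mk (coxRelators Ly.edges ∪ {r | r ∈ Ly.extra})
      ((Ly.e⁻¹ * Ly.c1 * Ly.e) * ((Ly.b * Ly.c3 * Ly.b * (Ly.c1⁻¹))⁻¹)) = 1 := ext 30 (by decide)
  simp only [map_mul, map_inv, map_pow] at r30
  have r34 : PresentedGroup.mk (coxRelators Ly.edges ∪ {r | r ∈ Ly.extra})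
      ((Ly.e * (Ly.a ^ 2) * Ly.e) * ((Ly.a * (Ly.b ^ 2) * Ly.a * (Ly.b⁻¹) * Ly.a * Ly.c1 * Ly.c5 * (Ly.c4⁻¹))⁻¹)) = 1 := ext 34 (by decide)
  simp only [map_mul, map_inv, map_pow] at r34
  have r37 : PresentedGroup.mk (coxRelators Ly.edges ∪ {r | r ∈ Ly.extra})
      (Ly.e * Ly.c2 * Ly.e * (Ly.c2⁻¹) * Ly.e * Ly.c2 * (Ly.c4⁻¹) * Ly.a * Ly.c3 * (Ly.a ^ 3)) = 1 := ext 37 (by decide)
  simp only [map_mul, map_inv, map_pow] at r37
  have r38 : PresentedGroup.mk (coxRelators Ly.edges ∪ {r | r ∈ Ly.extra})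
      (Ly.d * ((Ly.a * (Ly.b ^ 2) * (Ly.a⁻¹) * (Ly.b⁻¹) * (Ly.c1⁻¹) * (Ly.c4⁻¹) * (Ly.c5⁻¹) * Ly.a * Ly.e * Ly.a * Ly.e * Ly.a * (Ly.c2⁻¹) * Ly.b * Ly.e)⁻¹)) = 1 := ext 38 (by decide)
  simp only [map_mul, map_inv, map_pow] at r38
  have r48 : PresentedGroup.mk (coxRelators Ly.edges ∪ {r | r ∈ Ly.extra})
      (Ly.u * ((Ly.a ^ 2)⁻¹)) = 1 := ext 48 (by decide)
  simp only [map_mul, map_inv, map_pow] at r48
  refine hasReal_of_inv Nat.prime_five (x := (PresentedGroup.of Ly.Gen.c1 : Spor.Ly))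
    (t := ((PresentedGroup.of Ly.Gen.a : Spor.Ly)⁻¹) ^ 4) r10 (fun hc => hna ?_) ?_
  · obtain ⟨ha, hb, hcc, hd, he, h1, h2, h3, h4, h5, hu⟩ := ly_aux (z := 1) r1 r2 r5 r6 r7 r8 r9 r29 r30 r34 r37 r38 r48 hc
    have q44 : PresentedGroup.mk (coxRelators Ly.edges ∪ {r | r ∈ Ly.extra})
        (Ly.a1 * (Ly.a⁻¹)) = 1 := ext 44 (by decide)
    simp only [map_mul, map_inv, map_pow] at q44
    have q45 : PresentedGroup.mk (coxRelators Ly.edges ∪ {r | r ∈ Ly.extra})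
        (Ly.a2 * (((Ly.b⁻¹)⁻¹ * Ly.a * (Ly.b⁻¹))⁻¹)) = 1 := ext 45 (by decide)
    simp only [map_mul, map_inv, map_pow] at q45
    have q46 : PresentedGroup.mk (coxRelators Ly.edges ∪ {r | r ∈ Ly.extra})
        (Ly.a3 * ((((Ly.b ^ 2)⁻¹)⁻¹ * Ly.a * ((Ly.b ^ 2)⁻¹))⁻¹)) = 1 := ext 46 (by decide)
    simp only [map_mul, map_inv, map_pow] at q46
    have q47 : PresentedGroup.mk (coxRelators Ly.edges ∪ {r | r ∈ Ly.extra})
        (Ly.a4 * (((Ly.b ^ 2)⁻¹ * Ly.a * (Ly.b ^ 2))⁻¹)) = 1 := ext 47 (by decide)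
    simp only [map_mul, map_inv, map_pow] at q47
    have q49 : PresentedGroup.mk (coxRelators Ly.edges ∪ {r | r ∈ Ly.extra})
        (Ly.x23 * (Ly.d⁻¹)) = 1 := ext 49 (by decide)
    simp only [map_mul, map_inv, map_pow] at q49
    have q50 : PresentedGroup.mk (coxRelators Ly.edges ∪ {r | r ∈ Ly.extra})
        (Ly.x24 * ((Ly.d⁻¹)⁻¹)) = 1 := ext 50 (by decide)
    simp only [map_mul, map_inv, map_pow] at q50
    have q51 : PresentedGroup.mk (coxRelators Ly.edges ∪ {r | r ∈ Ly.extra})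
        (Ly.x25 * (((Ly.b ^ 2) * (Ly.a⁻¹) * (Ly.b⁻¹) * (Ly.a⁻¹) * (Ly.b ^ 2) * (Ly.c⁻¹) * Ly.a * Ly.c * (Ly.a⁻¹) * (Ly.c⁻¹) * Ly.d * (Ly.c⁻¹) * (Ly.b ^ 2) * (Ly.a⁻¹) * Ly.c * Ly.b)⁻¹)) = 1 := ext 51 (by decide)
    simp only [map_mul, map_inv, map_pow] at q51
    have q52 : PresentedGroup.mk (coxRelators Ly.edges ∪ {r | r ∈ Ly.extra})
        (Ly.x29 * ((Ly.a * Ly.b * (Ly.a⁻¹) * (Ly.b ^ 2) * (Ly.a⁻¹) * (Ly.b ^ 2) * (Ly.c⁻¹) * Ly.a * Ly.c * Ly.b * Ly.c * (Ly.b⁻¹) * Ly.d * Ly.c * ((Ly.b ^ 2)⁻¹) * Ly.d * Ly.c * Ly.b * Ly.c)⁻¹)) = 1 := ext 52 (by decide)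
    simp only [map_mul, map_inv, map_pow] at q52
    have q53 : PresentedGroup.mk (coxRelators Ly.edges ∪ {r | r ∈ Ly.extra})
        (Ly.x47 * (((Ly.c⁻¹) * (Ly.d⁻¹) * (Ly.a⁻¹) * (Ly.c⁻¹) * (Ly.a⁻¹) * Ly.b * (Ly.c⁻¹) * (Ly.d⁻¹))⁻¹)) = 1 := ext 53 (by decide)
    simp only [map_mul, map_inv, map_pow] at q53
    have q54 : PresentedGroup.mk (coxRelators Ly.edges ∪ {r | r ∈ Ly.extra})
        (Ly.x96 * ((Ly.b * Ly.d)⁻¹)) = 1 := ext 54 (by decide)
    simp only [map_mul, map_inv, map_pow] at q54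
    have q55 : PresentedGroup.mk (coxRelators Ly.edges ∪ {r | r ∈ Ly.extra})
        (Ly.x129 * (((Ly.d⁻¹) * (Ly.b⁻¹))⁻¹)) = 1 := ext 55 (by decide)
    simp only [map_mul, map_inv, map_pow] at q55
    have q56 : PresentedGroup.mk (coxRelators Ly.edges ∪ {r | r ∈ Ly.extra})
        (Ly.x162 * (((Ly.a⁻¹) * (Ly.b⁻¹) * (Ly.a⁻¹) * Ly.b * (Ly.c⁻¹) * (Ly.b⁻¹) * Ly.a * (Ly.c⁻¹) * Ly.b * Ly.a)⁻¹)) = 1 := ext 56 (by decide)
    simp only [map_mul, map_inv, map_pow] at q56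
    have q57 : PresentedGroup.mk (coxRelators Ly.edges ∪ {r | r ∈ Ly.extra})
        (Ly.x163 * ((((Ly.b ^ 2)⁻¹) * Ly.a * Ly.c * (Ly.a⁻¹) * Ly.b * Ly.c * Ly.b)⁻¹)) = 1 := ext 57 (by decide)
    simp only [map_mul, map_inv, map_pow] at q57
    have q58 : PresentedGroup.mk (coxRelators Ly.edges ∪ {r | r ∈ Ly.extra})
        (Ly.x164 * (((Ly.a⁻¹) * (Ly.b⁻¹) * (Ly.a⁻¹) * Ly.c * Ly.a * Ly.b * Ly.a)⁻¹)) = 1 := ext 58 (by decide)
    simp only [map_mul, map_inv, map_pow] at q58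
    have q59 : PresentedGroup.mk (coxRelators Ly.edges ∪ {r | r ∈ Ly.extra})
        (Ly.x165 * (((Ly.b⁻¹) * (Ly.a⁻¹) * Ly.b * Ly.c * (Ly.b⁻¹) * Ly.a * Ly.b)⁻¹)) = 1 := ext 59 (by decide)
    simp only [map_mul, map_inv, map_pow] at q59
    have q60 : PresentedGroup.mk (coxRelators Ly.edges ∪ {r | r ∈ Ly.extra})
        (Ly.x166 * (((Ly.b ^ 2) * (Ly.a⁻¹) * (Ly.b⁻¹) * Ly.c * Ly.b * Ly.a * Ly.c * ((Ly.b ^ 2)⁻¹) * (Ly.c⁻¹))⁻¹)) = 1 := ext 60 (by decide)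
    simp only [map_mul, map_inv, map_pow] at q60
    have q61 : PresentedGroup.mk (coxRelators Ly.edges ∪ {r | r ∈ Ly.extra})
        (Ly.x167 * (((Ly.a ^ 3)⁻¹)⁻¹)) = 1 := ext 61 (by decide)
    simp only [map_mul, map_inv, map_pow] at q61
    have q62 : PresentedGroup.mk (coxRelators Ly.edges ∪ {r | r ∈ Ly.extra})
        (Ly.x168 * ((Ly.b * (Ly.a⁻¹) * (Ly.b⁻¹) * ((Ly.a ^ 2)⁻¹))⁻¹)) = 1 := ext 62 (by decide)
    simp only [map_mul, map_inv, map_pow] at q62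
    have q63 : PresentedGroup.mk (coxRelators Ly.edges ∪ {r | r ∈ Ly.extra})
        (Ly.x169 * ((Ly.a * (Ly.b ^ 2) * Ly.a * ((Ly.b ^ 2)⁻¹) * (Ly.a⁻¹))⁻¹)) = 1 := ext 63 (by decide)
    simp only [map_mul, map_inv, map_pow] at q63
    have q64 : PresentedGroup.mk (coxRelators Ly.edges ∪ {r | r ∈ Ly.extra})
        (Ly.x364 * (((Ly.a⁻¹) * Ly.d * (Ly.b⁻¹) * (Ly.c⁻¹) * (Ly.a⁻¹) * Ly.b * (Ly.c⁻¹) * (Ly.d⁻¹) * Ly.b * (Ly.c⁻¹) * (Ly.b⁻¹) * (Ly.a⁻¹) * (Ly.c⁻¹) * Ly.a * (Ly.b⁻¹) * Ly.a * Ly.b * Ly.a * (Ly.b⁻¹))⁻¹)) = 1 := ext 64 (by decide)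
    simp only [map_mul, map_inv, map_pow] at q64
    have q65 : PresentedGroup.mk (coxRelators Ly.edges ∪ {r | r ∈ Ly.extra})
        (Ly.x365 * ((Ly.a * ((Ly.b ^ 2)⁻¹) * (Ly.a⁻¹) * Ly.c * Ly.b * (Ly.c⁻¹) * Ly.b * (Ly.a⁻¹) * ((Ly.c ^ 2)⁻¹) * Ly.d * Ly.c * Ly.a * Ly.c * (Ly.a⁻¹) * Ly.c * (Ly.b⁻¹) * (Ly.d⁻¹))⁻¹)) = 1 := ext 65 (by decide)
    simp only [map_mul, map_inv, map_pow] at q65
    have q66 : PresentedGroup.mk (coxRelators Ly.edges ∪ {r | r ∈ Ly.extra})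
        (Ly.x366 * ((Ly.b * Ly.a * (Ly.b⁻¹) * (Ly.a⁻¹) * ((Ly.b ^ 2)⁻¹) * (Ly.a⁻¹) * (Ly.b⁻¹) * Ly.c * (Ly.b ^ 2) * Ly.c * Ly.b * Ly.d * Ly.c * ((Ly.b ^ 2)⁻¹) * Ly.d * Ly.c * Ly.b * Ly.c)⁻¹)) = 1 := ext 66 (by decide)
    simp only [map_mul, map_inv, map_pow] at q66
    have q67 : PresentedGroup.mk (coxRelators Ly.edges ∪ {r | r ∈ Ly.extra})
        (Ly.x367 * (((Ly.c⁻¹) * (Ly.b⁻¹) * (Ly.c⁻¹) * (Ly.d⁻¹) * (Ly.b ^ 2) * (Ly.c⁻¹) * (Ly.d⁻¹) * (Ly.b⁻¹) * (Ly.c⁻¹) * ((Ly.b ^ 2)⁻¹) * (Ly.c⁻¹) * Ly.b * Ly.a * (Ly.b ^ 2) * Ly.a * Ly.b * (Ly.a⁻¹) * (Ly.b⁻¹))⁻¹)) = 1 := ext 67 (by decide)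
    simp only [map_mul, map_inv, map_pow] at q67
    have q68 : PresentedGroup.mk (coxRelators Ly.edges ∪ {r | r ∈ Ly.extra})
        (Ly.x368 * (((Ly.a⁻¹) * (Ly.c⁻¹) * (Ly.d⁻¹) * Ly.a * (Ly.c⁻¹) * (Ly.b⁻¹) * Ly.a * (Ly.c⁻¹) * (Ly.d⁻¹) * (Ly.a⁻¹) * (Ly.c⁻¹) * Ly.a * Ly.c * ((Ly.b ^ 2)⁻¹) * (Ly.c⁻¹) * (Ly.b⁻¹) * (Ly.a⁻¹) * ((Ly.b ^ 2)⁻¹))⁻¹)) = 1 := ext 68 (by decide)
    simp only [map_mul, map_inv, map_pow] at q68
    have q69 : PresentedGroup.mk (coxRelators Ly.edges ∪ {r | r ∈ Ly.extra})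
        (Ly.x369 * (((Ly.a⁻¹) * (Ly.c⁻¹) * (Ly.d⁻¹) * Ly.b * (Ly.a⁻¹) * (Ly.b⁻¹) * (Ly.c⁻¹) * (Ly.d⁻¹) * Ly.b * (Ly.a⁻¹) * (Ly.b⁻¹) * (Ly.c⁻¹) * (Ly.b⁻¹) * Ly.a * ((Ly.b ^ 2)⁻¹) * Ly.a * (Ly.b⁻¹))⁻¹)) = 1 := ext 69 (by decide)
    simp only [map_mul, map_inv, map_pow] at q69
    have q70 : PresentedGroup.mk (coxRelators Ly.edges ∪ {r | r ∈ Ly.extra})
        (Ly.x370 * (((Ly.d⁻¹) * Ly.a * Ly.c * Ly.b * Ly.c * (Ly.a⁻¹) * (Ly.c⁻¹) * (Ly.d⁻¹) * Ly.a * (Ly.b⁻¹) * (Ly.a⁻¹) * Ly.c * (Ly.a⁻¹) * ((Ly.b ^ 2)⁻¹) * (Ly.a⁻¹) * Ly.b * (Ly.a⁻¹))⁻¹)) = 1 := ext 70 (by decide)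
    simp only [map_mul, map_inv, map_pow] at q70
    have q71 : PresentedGroup.mk (coxRelators Ly.edges ∪ {r | r ∈ Ly.extra})
        (Ly.x371 * (((Ly.c⁻¹) * (Ly.a⁻¹) * Ly.c * Ly.b * (Ly.c⁻¹) * (Ly.d⁻¹) * Ly.c * (Ly.a⁻¹) * Ly.c * Ly.a * Ly.c * (Ly.b⁻¹) * (Ly.a⁻¹) * (Ly.b⁻¹) * (Ly.a⁻¹) * Ly.b)⁻¹)) = 1 := ext 71 (by decide)
    simp only [map_mul, map_inv, map_pow] at q71
    have h_a1 : PresentedGroup.mk (coxRelators Ly.edges ∪ {r | r ∈ Ly.extra}) Ly.a1 = 1 := by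
      simpa [ha, hb, hcc, hd] using q44
    have h_a2 : PresentedGroup.mk (coxRelators Ly.edges ∪ {r | r ∈ Ly.extra}) Ly.a2 = 1 := by
      simpa [ha, hb, hcc, hd] using q45
    have h_a3 : PresentedGroup.mk (coxRelators Ly.edges ∪ {r | r ∈ Ly.extra}) Ly.a3 = 1 := by
      simpa [ha, hb, hcc, hd] using q46
    have h_a4 : PresentedGroup.mk (coxRelators Ly.edges ∪ {r | r ∈ Ly.extra}) Ly.a4 = 1 := by
      simpa [ha, hb, hcc, hd] using q47
    have h_x23 : PresentedGroup.mk (coxRelators Ly.edges ∪ {r | r ∈ Ly.extra}) Ly.x23 = 1 := by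
      simpa [ha, hb, hcc, hd] using q49
    have h_x24 : PresentedGroup.mk (coxRelators Ly.edges ∪ {r | r ∈ Ly.extra}) Ly.x24 = 1 := by
      simpa [ha, hb, hcc, hd] using q50
    have h_x25 : PresentedGroup.mk (coxRelators Ly.edges ∪ {r | r ∈ Ly.extra}) Ly.x25 = 1 := by
      simpa [ha, hb, hcc, hd] using q51
    have h_x29 : PresentedGroup.mk (coxRelators Ly.edges ∪ {r | r ∈ Ly.extra}) Ly.x29 = 1 := by
      simpa [ha, hb, hcc, hd] using q52
    have h_x47 : PresentedGroup.mk (coxRelators Ly.edges ∪ {r | r ∈ Ly.extra}) Ly.x47 = 1 := by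
      simpa [ha, hb, hcc, hd] using q53
    have h_x96 : PresentedGroup.mk (coxRelators Ly.edges ∪ {r | r ∈ Ly.extra}) Ly.x96 = 1 := by
      simpa [ha, hb, hcc, hd] using q54
    have h_x129 : PresentedGroup.mk (coxRelators Ly.edges ∪ {r | r ∈ Ly.extra}) Ly.x129 = 1 := by
      simpa [ha, hb, hcc, hd] using q55
    have h_x162 : PresentedGroup.mk (coxRelators Ly.edges ∪ {r | r ∈ Ly.extra}) Ly.x162 = 1 := by
      simpa [ha, hb, hcc, hd] using q56
    have h_x163 : PresentedGroup.mk (coxRelators Ly.edges ∪ {r | r ∈ Ly.extra}) Ly.x163 = 1 := by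
      simpa [ha, hb, hcc, hd] using q57
    have h_x164 : PresentedGroup.mk (coxRelators Ly.edges ∪ {r | r ∈ Ly.extra}) Ly.x164 = 1 := by
      simpa [ha, hb, hcc, hd] using q58
    have h_x165 : PresentedGroup.mk (coxRelators Ly.edges ∪ {r | r ∈ Ly.extra}) Ly.x165 = 1 := by
      simpa [ha, hb, hcc, hd] using q59
    have h_x166 : PresentedGroup.mk (coxRelators Ly.edges ∪ {r | r ∈ Ly.extra}) Ly.x166 = 1 := by
      simpa [ha, hb, hcc, hd] using q60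
    have h_x167 : PresentedGroup.mk (coxRelators Ly.edges ∪ {r | r ∈ Ly.extra}) Ly.x167 = 1 := by
      simpa [ha, hb, hcc, hd] using q61
    have h_x168 : PresentedGroup.mk (coxRelators Ly.edges ∪ {r | r ∈ Ly.extra}) Ly.x168 = 1 := by
      simpa [ha, hb, hcc, hd] using q62
    have h_x169 : PresentedGroup.mk (coxRelators Ly.edges ∪ {r | r ∈ Ly.extra}) Ly.x169 = 1 := by
      simpa [ha, hb, hcc, hd] using q63
    have h_x364 : PresentedGroup.mk (coxRelators Ly.edges ∪ {r | r ∈ Ly.extra}) Ly.x364 = 1 := by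
      simpa [ha, hb, hcc, hd] using q64
    have h_x365 : PresentedGroup.mk (coxRelators Ly.edges ∪ {r | r ∈ Ly.extra}) Ly.x365 = 1 := by
      simpa [ha, hb, hcc, hd] using q65
    have h_x366 : PresentedGroup.mk (coxRelators Ly.edges ∪ {r | r ∈ Ly.extra}) Ly.x366 = 1 := by
      simpa [ha, hb, hcc, hd] using q66
    have h_x367 : PresentedGroup.mk (coxRelators Ly.edges ∪ {r | r ∈ Ly.extra}) Ly.x367 = 1 := by
      simpa [ha, hb, hcc, hd] using q67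
    have h_x368 : PresentedGroup.mk (coxRelators Ly.edges ∪ {r | r ∈ Ly.extra}) Ly.x368 = 1 := by
      simpa [ha, hb, hcc, hd] using q68
    have h_x369 : PresentedGroup.mk (coxRelators Ly.edges ∪ {r | r ∈ Ly.extra}) Ly.x369 = 1 := by
      simpa [ha, hb, hcc, hd] using q69
    have h_x370 : PresentedGroup.mk (coxRelators Ly.edges ∪ {r | r ∈ Ly.extra}) Ly.x370 = 1 := by
      simpa [ha, hb, hcc, hd] using q70
    have h_x371 : PresentedGroup.mk (coxRelators Ly.edges ∪ {r | r ∈ Ly.extra}) Ly.x371 = 1 := by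
      simpa [ha, hb, hcc, hd] using q71
    have key : ∀ g : Spor.Ly, g = 1 → g ∈ Subgroup.zpowers (PresentedGroup.of Ly.Gen.z : Spor.Ly) := by
      rintro _ rfl
      exact one_mem _
    refine comm_of_zpowers (PresentedGroup.of Ly.Gen.z) fun y => ?_
    cases y
    · exact key _ ha
    · exact key _ hb
    · exact key _ hcc
    · exact key _ hd
    · exact Subgroup.mem_zpowers _
    · exact key _ he
    · exact key _ h_a1
    · exact key _ h_a2
    · exact key _ h_a3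
    · exact key _ h_a4
    · exact key _ h1
    · exact key _ h2
    · exact key _ h3
    · exact key _ h4
    · exact key _ h5
    · exact key _ hu
    · exact key _ h_x23
    · exact key _ h_x24
    · exact key _ h_x25
    · exact key _ h_x29
    · exact key _ h_x47
    · exact key _ h_x96
    · exact key _ h_x129
    · exact key _ h_x162
    · exact key _ h_x163
    · exact key _ h_x164
    · exact key _ h_x165
    · exact key _ h_x166
    · exact key _ h_x167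
    · exact key _ h_x168
    · exact key _ h_x169
    · exact key _ h_x364
    · exact key _ h_x365
    · exact key _ h_x366
    · exact key _ h_x367
    · exact key _ h_x368
    · exact key _ h_x369
    · exact key _ h_x370
    · exact key _ h_x371
  · have h5 : (PresentedGroup.of Ly.Gen.c1 : Spor.Ly) ^ 5 = 1 := r10
    have e2 : (PresentedGroup.of Ly.Gen.a : Spor.Ly)⁻¹ * PresentedGroup.of Ly.Gen.c2 * PresentedGroup.of Ly.Gen.a =
        (PresentedGroup.of Ly.Gen.c1 ^ 2)⁻¹ := eq_of_mul_inv_eq_one r21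
    have ec : (PresentedGroup.of Ly.Gen.c1 : Spor.Ly) = PresentedGroup.of Ly.Gen.c := eq_of_mul_inv_eq_one r5
    have e1 : (PresentedGroup.of Ly.Gen.a : Spor.Ly)⁻¹ * PresentedGroup.of Ly.Gen.c1 * PresentedGroup.of Ly.Gen.a =
        PresentedGroup.of Ly.Gen.c2 := by
      rw [ec]
      exact (eq_of_mul_inv_eq_one r6).symm
    exact conj_aux2 e1 e2 h5

end Cfsg.Agent.H721.Pres
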