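import Cfsg.Agent.H721.CoM24
import Cfsg.Agent.S1711
import Cfsg.Agent.S1619
import Cfsg.Agent.J2.HundredGens
import Cfsg.Agent.Mrg.Omega.TitsIso.Model

/-!
# Real elements: J4 (11), J2 (5), Tits group (5) (helper721)
-/

set_option autoImplicit false

namespace Cfsg.Agent.H721.Small

open Cfsg
open Cfsg.Agent.H722.RealP Cfsg.Agent.H721.Base

theorem j4_eleven : HasReal 11 Spor.J4 := by
  obtain ⟨e⟩ := S1711.result
  exact (CoM24.m24_eleven.map_equiv e.symm).of_subgroup

open Cfsg.Agent.J2.HundredGens in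
theorem j2_hundred : HasReal 5 ↥(SporadicA.J2Hundred.G) := by
  refine hasReal_of_pair (u := ⟨gen 0, gen_mem 0⟩) (v := ⟨gen 1, gen_mem 1⟩) (by norm_num)
    (Subtype.ext (gen_mul_self 0)) (Subtype.ext (gen_mul_self 1)) (Subtype.ext ?_) (fun h => ?_)
  · show (gen 0 * gen 1) ^ 5 = 1
    have h1 : gen 0 * gen 1 = pw [0, 1] := by
      rw [pw_cons, pw_cons, pw_nil, mul_one]
    rw [h1]
    have h2 : pw [0, 1] ^ 5 = pw [0, 1, 0, 1, 0, 1, 0, 1, 0, 1] := by
      simp only [pow_succ, pow_zero, one_mul, pw_mul, List.cons_append, List.nil_append]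
    rw [h2]
    exact pw_eq (L := [0, 1, 0, 1, 0, 1, 0, 1, 0, 1]) (M := []) (by decide +kernel)
  · have h1 : gen 0 = gen 1 := congrArg Subtype.val h
    have h2 : ∀ i : Fin 100, run [0] i = run [1] i := fun i => by
      rw [← pw_val, ← pw_val, pw_cons, pw_cons, h1]
    revert h2
    decide +kernel

theorem j2_five : HasReal 5 Spor.J2 := by
  obtain ⟨e⟩ := J2.HundredGens.J2_iso S1619.result.2.2.2
  exact j2_hundred.map_equiv e.symm

theorem tits_five : HasReal 5 Cfsg.Lie.TitsGroup := by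
  obtain ⟨Z, hZ, hc, hi⟩ := Omega.TitsIso.Model.exists_titsRel
  refine hasReal_of_pair (by norm_num) (hZ.sq 0) (hZ.sq (0 + 4)) (hZ.o5 0) (fun h => ?_)
  have h0 : Z 0 = Z 4 := h
  have hcomm : ∀ i, Z 0 * Z i = Z i * Z 0 := by
    have a0 := hZ.c1 0
    have a1 := hZ.c2 0
    have a2 := hZ.c1 7
    have a3 := hZ.c2 6
    have b1 := hZ.c1 4
    have b2 := hZ.c2 4
    have b3 := hZ.c1 3
    have b4 := hZ.c2 2
    intro i
    fin_cases i
    · rfl
    · exact a0
    · exact a1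
    · rw [h0]; exact b3.symm
    · show Z 0 * Z 4 = Z 4 * Z 0
      rw [← h0]
    · rw [h0]; exact b1
    · exact a3.symm
    · exact a2.symm
  have h1 : Subgroup.centralizer ({Z 0} : Set Cfsg.Lie.TitsGroup) = ⊤ := by
    rw [eq_top_iff, ← hc, Subgroup.closure_le]
    rintro _ ⟨i, rfl⟩
    rw [SetLike.mem_coe, Subgroup.mem_centralizer_singleton_iff]
    exact (hcomm i).symm
  rw [h1, Subgroup.index_top] at hi
  omega

end Cfsg.Agent.H721.Small
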