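import Cfsg.Agent.H721.Sym
import Cfsg.Agent.Th.Main475
import Cfsg.Agent.CTwoTab.Ru
import Cfsg.Agent.H505.SzReal

/-!
# Real elements of order 5 of Th and Ru (helper721)
-/

set_option autoImplicit false

namespace Cfsg.Agent.H721.ThRu

open Cfsg
open Cfsg.Agent.H722.RealP Cfsg.Agent.H721.Base

/-- an involution normalising but not centralising a group of prime order inverts it -/
theorem hasReal_of_normalizing {G : Type*} [Group G] {p : ℕ} (hp : p.Prime) {x t : G} (hx : orderOf x = p)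
    (ht : t * t = 1) (hn : t * x * t⁻¹ ∈ Subgroup.zpowers x) (hc : t * x ≠ x * t) : HasReal p G := by
  have := Fact.mk hp
  obtain ⟨k, hk⟩ := Subgroup.mem_zpowers_iff.1 hn
  have h1 : x ^ (k * k) = x := by
    have h2 : t * (t * x * t⁻¹) * t⁻¹ = x := by
      have ht' : t⁻¹ = t := inv_eq_of_mul_eq_one_left ht
      rw [ht']
      calc t * (t * x * t) * t = (t * t) * x * (t * t) := by group
        _ = x := by rw [ht, one_mul, mul_one]
    rw [← hk, ← conj_zpow, ← hk, ← zpow_mul] at h2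
    exact h2
  have h3 : (p : ℤ) ∣ k * k - 1 := by
    rw [← hx, orderOf_dvd_iff_zpow_eq_one, zpow_sub, h1, zpow_one, mul_inv_cancel]
  have h4 : (p : ℤ) ∣ (k - 1) * (k + 1) := by
    have : (k - 1) * (k + 1) = k * k - 1 := by ring
    rw [this]
    exact h3
  have hpp : Prime (p : ℤ) := Nat.prime_iff_prime_int.1 hp
  rcases hpp.dvd_or_dvd h4 with h5 | h5
  · exfalso
    rw [← hx, orderOf_dvd_iff_zpow_eq_one, zpow_sub, zpow_one, mul_inv_eq_one] at h5
    rw [h5] at hk
    apply hc
    calc t * x = (t * x * t⁻¹) * t := by group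
      _ = x * t := by rw [← hk]
  · rw [← hx, orderOf_dvd_iff_zpow_eq_one, zpow_add, zpow_one, mul_eq_one_iff_eq_inv] at h5
    have hx1 : x ≠ 1 := fun h => hc (by rw [h, mul_one, one_mul])
    refine hasReal_of_inv_sq hp (by rw [← hx, pow_orderOf_eq_one]) hx1 ht ?_
    rw [← hk, h5]

open Equiv Equiv.Perm in
/-- the 5-cycle inside degree 9 -/
def x9 : Perm (Fin 9) := swap 0 1 * swap 1 2 * swap 2 3 * swap 3 4

open Equiv Equiv.Perm in
def t9 : Perm (Fin 9) := swap 0 4 * swap 1 3

open Equiv Equiv.Perm in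
theorem sign_x9 : sign x9 = 1 := by
  unfold x9
  simp only [map_mul]
  rw [sign_swap (by decide), sign_swap (by decide), sign_swap (by decide), sign_swap (by decide)]
  decide

open Equiv Equiv.Perm in
theorem sign_t9 : sign t9 = 1 := by
  unfold t9
  simp only [map_mul]
  rw [sign_swap (by decide), sign_swap (by decide)]
  decide

/-- `A_9` -/
theorem alt_nine : HasReal 5 (alternatingGroup (Fin 9)) := by
  refine hasReal_of_inv_sq (x := ⟨x9, sign_x9⟩) (t := ⟨t9, sign_t9⟩) Nat.prime_five (Subtype.ext ?_)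
    (fun h => ?_) (Subtype.ext ?_) (Subtype.ext ?_)
  · show x9 ^ 5 = 1
    decide +kernel
  · have h1 : x9 = 1 := congrArg Subtype.val h
    revert h1
    decide +kernel
  · show t9 * t9 = 1
    decide +kernel
  · show t9 * x9 * t9⁻¹ = x9⁻¹
    decide +kernel

theorem th_five : HasReal 5 Spor.Th := by
  obtain ⟨z, -, Q, hQ, -, -, ⟨e⟩⟩ := Th.Main475.main
  have : Finite Spor.Th := Th.Main1700.final.1
  haveI : Fact (Nat.Prime 5) := ⟨Nat.prime_five⟩
  have h1 : HasReal 5 (↥(Subgroup.centralizer ({z} : Set Spor.Th)) ⧸ Q) := alt_nine.map_equiv e.symm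
  exact (HasReal.of_quotient (by norm_num) h1).of_subgroup

theorem ru_five {K : Type*} [Group K] (h : Spor.IsoRu K) : HasReal 5 K := by
  obtain ⟨C, hsz, hc⟩ := CTwoTab.Ru.exists_core_sz h
  obtain ⟨x, t, hx, ht, hn, hne⟩ := Cfsg.Agent.H505.SzReal.exists_normalizing_of_iso hsz Nat.prime_five
    (by norm_num) (by rw [hc]; norm_num)
  exact (hasReal_of_normalizing Nat.prime_five hx ht hn hne).of_subgroup

end Cfsg.Agent.H721.ThRu
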