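import Cfsg.Agent.H722.Struct
import Cfsg.Agent.H720.RowDef
import Cfsg.Agent.Lib.PSolvable
import Cfsg.Agent.PLocal.PSolvable

/-!
# Groups generated by their 2-elements without real elements of order 5 (helper721)

* a group without real elements of order `p` is `p`-solvable if the simple groups of order divisible by `p` have such
  elements;
* a `p`-solvable group of order divisible by `p`, generated by its 2-elements, has real elements of order `p`;
* a finite simple nonabelian group with cyclic Sylow 5-subgroups `≠ 1` has real elements of order 5 (Burnside).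
-/

set_option autoImplicit false

namespace Cfsg.Agent.H721.Five

open Subgroup Cfsg
open Cfsg.Agent.H722.RealP Cfsg.Agent.H722.Struct Cfsg.Agent.H720.RowDef

universe u

/-- the table for the simple groups -/
def AllReal (p : ℕ) : Prop := ∀ (S : Type u) [Group S] [Finite S] [IsSimpleGroup S],
  (¬ ∀ a b : S, a * b = b * a) → p ∣ Nat.card S → HasReal p S

theorem isPSolvable_of_noReal {p : ℕ} [Fact p.Prime] (hp2 : p ≠ 2) (hs : AllReal.{u} p) (n : ℕ) :
    ∀ (G : Type u) [Group G] [Finite G], Nat.card G = n → ¬ HasReal p G → Cfsg.IsPSolvable p G := by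
  induction n using Nat.strong_induction_on with
  | _ n ih =>
  intro G _ _ hn hreal
  rcases subsingleton_or_nontrivial G with hsub | hnt
  · exact PLocal.PSolvable.isPSolvable_of_coprime (by rw [Nat.card_of_subsingleton (1 : G)]; exact Nat.coprime_one_left _)
  by_cases hsimp : ∀ N : Subgroup G, N.Normal → N = ⊥ ∨ N = ⊤
  · have : IsSimpleGroup G := { exists_pair_ne := hnt.exists_pair_ne, eq_bot_or_eq_top_of_normal := hsimp }
    by_cases hna : ∀ a b : G, a * b = b * a
    · have : Group.IsSolvable G := Group.isSolvable_of_comm hna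
      exact Lib.PSolvable.IsPSolvable_of_solvable p
    · by_cases hd : p ∣ Nat.card G
      · exact absurd (hs G hna hd) hreal
      · exact PLocal.PSolvable.isPSolvable_of_coprime
          ((Nat.Prime.coprime_iff_not_dvd Fact.out).2 hd).symm
  · push Not at hsimp
    obtain ⟨N, hN, h1, h2⟩ := hsimp
    have hc := card_mul_index N
    have hi : 1 < N.index := by
      rcases Nat.lt_or_ge 1 N.index with h | h
      · exact h
      · exfalso
        apply h2
        rw [← index_eq_one]
        have := N.index_ne_zero_of_finite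
        omega
    have hcN : 1 < Nat.card N := N.one_lt_card_iff_ne_bot.2 h1
    have hq : Nat.card (G ⧸ N) = N.index := rfl
    refine Lib.PSolvable.IsPSolvable_of_extension p N (ih _ ?_ N rfl fun h => hreal h.of_subgroup)
      (ih _ ?_ (G ⧸ N) rfl fun h => hreal (h.of_quotient hp2))
    · rw [← hn, ← hc]
      exact lt_mul_of_one_lt_right (by omega) hi
    · rw [hq, ← hn, ← hc]
      exact lt_mul_of_one_lt_left (by omega) hcN

/-- a `p`-solvable group generated by its 2-elements, without real elements of order `p`, is a `p'`-group -/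
theorem not_dvd_of_pSolvable {p : ℕ} [Fact p.Prime] (hp2 : p ≠ 2) {G : Type u} [Group G] [Finite G]
    (hG : Cfsg.IsPSolvable p G) (h2 : TwoGen G) (hreal : ¬ HasReal p G) : ¬ p ∣ Nat.card G := by
  have hN : (pPrimeCore p G).Normal := Lib.Cores.pPrimeCore_normal p
  set Q := G ⧸ pPrimeCore p G with hQ
  have hQ2 : TwoGen Q := TwoGen.of_surjective h2 (QuotientGroup.mk' _) (QuotientGroup.mk'_surjective _)
  have hQp : Cfsg.IsPSolvable p Q :=
    Lib.PSolvable.IsPSolvable_of_surjective p hG (QuotientGroup.mk' _) (QuotientGroup.mk'_surjective _)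
  have hQr : ¬ HasReal p Q := fun h => hreal (h.of_quotient hp2)
  have h0 : pPrimeCore p Q = ⊥ := Lib.Cores.pPrimeCore_quotient_pPrimeCore p
  have hc := Lib.PSolvable.centralizer_pCore_le_of_pSolvable p hQp h0
  have hz : pCore p Q ≤ center Q := le_center hQ2 hQr (Lib.Cores.pCore_normal p) (Lib.Cores.pCore_isPGroup p)
  have htop : (⊤ : Subgroup Q) ≤ pCore p Q := by
    refine le_trans ?_ hc
    intro g _
    rw [mem_centralizer_iff]
    intro x hx
    exact (mem_center_iff.1 (hz hx) g).symm
  have hpg : IsPGroup p Q := by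
    have h3 : IsPGroup p (⊤ : Subgroup Q) := (Lib.Cores.pCore_isPGroup p).to_le htop
    exact h3.of_equiv topEquiv
  have hsub : Subsingleton Q := subsingleton_of_pGroup hp2 hQ2 hpg
  have hcard : Nat.card Q = 1 := Nat.card_of_subsingleton (1 : Q)
  intro hd
  rw [← card_mul_index (pPrimeCore p G), show (pPrimeCore p G).index = Nat.card Q from rfl, hcard, mul_one] at hd
  have h4 := Lib.Cores.pPrimeCore_coprime (G := G) p
  exact absurd (Nat.Coprime.eq_one_of_dvd h4.symm hd) (Fact.out : p.Prime).one_lt.ne'

/-- **the reduction** -/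
theorem hasReal_of_twoGen {p : ℕ} [Fact p.Prime] (hp2 : p ≠ 2) (hs : AllReal.{u} p) {G : Type u} [Group G] [Finite G]
    (h2 : TwoGen G) (hd : p ∣ Nat.card G) : HasReal p G := by
  by_contra hreal
  exact not_dvd_of_pSolvable hp2 (isPSolvable_of_noReal hp2 hs _ G rfl hreal) h2 hreal hd

/-! ### cyclic Sylow 5-subgroups -/

/-- a 2-element normalising but not centralising a cyclic Sylow 5-subgroup -/
theorem exists_two_elt_of_cyclic {G : Type u} [Group G] [Finite G] (P : Sylow 5 G) (hP : IsCyclic P)
    (hn : ¬ normalizer (P : Set G) ≤ centralizer (P : Set G)) :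
    ∃ t : G, (∃ k : ℕ, orderOf t = 2 ^ k) ∧ t ∈ normalizer (P : Set G) ∧ t ∉ centralizer (P : Set G) := by
  have hf : Fact (Nat.Prime 5) := ⟨Nat.prime_five⟩
  have key := card_dvd_of_injective _ (QuotientGroup.kerLift_injective P.normalizerMonoidHom)
  rw [normalizerMonoidHom_ker, ← index, ← relIndex] at key
  have hdvd : (centralizer (P : Set G)).relIndex (normalizer (P : Set G)) ∣ 4 := by
    obtain ⟨k, hk⟩ := P.2.exists_card_eq
    rcases Nat.eq_zero_or_pos k with h0 | h0
    · rw [hP.card_mulAut, hk, h0, pow_zero, Nat.totient_one] at key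
      exact key.trans (one_dvd _)
    · rw [hP.card_mulAut, hk, Nat.totient_prime_pow Fact.out h0] at key
      refine Nat.Coprime.dvd_of_dvd_mul_left (Nat.Coprime.pow_right _ ?_) key
      apply Nat.Coprime.coprime_dvd_left (relIndex_dvd_of_le_left _ P.le_centralizer)
      apply Nat.Coprime.coprime_dvd_left (relIndex_dvd_index_of_le P.le_normalizer)
      rw [Nat.coprime_comm, Nat.Prime.coprime_iff_not_dvd Fact.out]
      exact P.not_dvd_index
  obtain ⟨g, hg, hgc⟩ := SetLike.not_le_iff_exists.1 hn
  obtain ⟨k, m, hm, hkm⟩ := Nat.exists_eq_two_pow_mul_odd (orderOf_pos g).ne'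
  refine ⟨g ^ m, ⟨k, ?_⟩, pow_mem hg m, fun hc => hgc ?_⟩
  · rw [orderOf_pow_of_dvd (by rintro rfl; simp at hm) (by rw [hkm]; exact Dvd.intro_left _ rfl), hkm]
    exact Nat.mul_div_cancel _ hm.pos
  · -- `g ^ 4` and `g ^ m` centralise
    have h4 : g ^ 4 ∈ centralizer (P : Set G) := by
      have hnorm : ((centralizer (P : Set G)).subgroupOf (normalizer (P : Set G))).Normal := by
        have h8 : (MonoidHom.ker (P : Subgroup G).normalizerMonoidHom).Normal := inferInstance
        rw [normalizerMonoidHom_ker] at h8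
        exact h8
      have h5 := pow_index_mem ((centralizer (P : Set G)).subgroupOf (normalizer (P : Set G))) ⟨g, hg⟩
      rw [mem_subgroupOf] at h5
      have h6 : g ^ (centralizer (P : Set G)).relIndex (normalizer (P : Set G)) ∈ centralizer (P : Set G) := h5
      obtain ⟨c, hc⟩ := hdvd
      rw [hc, pow_mul]
      exact pow_mem h6 c
    obtain ⟨j, hj⟩ := hm
    have h7 : g = g ^ (m * m) * ((g ^ 4) ^ (j * j + j))⁻¹ := by
      rw [eq_mul_inv_iff_mul_eq, ← pow_mul, ← pow_succ']
      congr 1
      rw [hj]
      ring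
    rw [h7]
    exact mul_mem (by rw [pow_mul]; exact pow_mem hc m) (inv_mem (pow_mem h4 _))

/-- **cyclic Sylow 5-subgroups** (Burnside) -/
theorem hasReal_of_cyclic {S : Type u} [Group S] [Finite S] [IsSimpleGroup S] (hna : ¬ ∀ a b : S, a * b = b * a)
    (hd : 5 ∣ Nat.card S) (hcyc : ∀ P : Sylow 5 S, IsCyclic P) : HasReal 5 S := by
  have hf : Fact (Nat.Prime 5) := ⟨Nat.prime_five⟩
  obtain ⟨P⟩ : Nonempty (Sylow 5 S) := inferInstance
  have hP := hcyc P
  have hP1 : (P : Subgroup S) ≠ ⊥ := by
    intro h
    have h1 := P.card_eq_multiplicity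
    rw [h, card_bot] at h1
    have h2 := (Nat.Prime.dvd_iff_one_le_factorization Nat.prime_five Nat.card_pos.ne').1 hd
    have h3 : 5 ^ 1 ≤ 5 ^ (Nat.card S).factorization 5 := Nat.pow_le_pow_right (by norm_num) h2
    omega
  by_cases hn : normalizer (P : Set S) ≤ centralizer (P : Set S)
  · exfalso
    have h1 := MonoidHom.ker_transferSylow_isComplement' P hn
    rcases (inferInstance : (MonoidHom.transferSylow P hn).ker.Normal).eq_bot_or_eq_top with h2 | h2
    · rw [h2] at h1
      have h3 : (P : Subgroup S) = ⊤ := by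
        rw [isComplement'_bot_left] at h1
        exact h1
      have : Group.IsNilpotent S := by
        have h4 : IsPGroup 5 (⊤ : Subgroup S) := by rw [← h3]; exact P.isPGroup'
        exact (h4.of_equiv topEquiv).isNilpotent
      have : Group.IsSolvable S := inferInstance
      exact hna (fun a b => (IsSimpleGroup.comm_iff_isSolvable.2 this) a b)
    · rw [h2] at h1
      rw [isComplement'_top_left] at h1
      exact hP1 h1
  · obtain ⟨t, ht, htn, htc⟩ := exists_two_elt_of_cyclic P hP hn
    refine hasReal_of_act P.isPGroup' ht (fun r hr => ?_) ?_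
    · exact (mem_normalizer_iff.1 htn r).1 hr
    · by_contra hcon
      push Not at hcon
      apply htc
      rw [mem_centralizer_iff]
      intro r hr
      have := hcon r hr
      rw [mul_inv_eq_iff_eq_mul] at this
      exact this.symm

/-- the exceptional case does not occur for `p = 5` -/
theorem hasReal_of_row {S : Type u} [Group S] [Finite S] [IsSimpleGroup S] (hna : ¬ ∀ a b : S, a * b = b * a)
    (hd : 5 ∣ Nat.card S) (h : Row 5 S) : HasReal 5 S := by
  rcases h with h | h | ⟨F, _, _, h1, h2, -⟩
  · exact h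
  · exact hasReal_of_cyclic hna hd h
  · exfalso
    obtain ⟨n, hp, hc⟩ := FiniteField.card F 5
    rw [hc, Nat.pow_mod] at h2
    norm_num at h2

/-- **S4975 from the table** -/
theorem main (T : ∀ (S : Type u) [Group S] [Finite S] [IsSimpleGroup S], (¬ ∀ a b : S, a * b = b * a) →
    5 ∣ Nat.card S → Row 5 S) {G : Type u} [Group G] [Finite G] (h5 : 5 ∣ Nat.card G)
    (hgen : closure {g : G | ∃ k : ℕ, orderOf g = 2 ^ k} = ⊤) : ∃ x : G, orderOf x = 5 ∧ IsConj x x⁻¹ := by
  have hf : Fact (Nat.Prime 5) := ⟨Nat.prime_five⟩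
  exact (hasReal_of_twoGen (by norm_num) (fun S _ _ _ h1 h2 => hasReal_of_row h1 h2 (T S h1 h2)) hgen h5).isConj

end Cfsg.Agent.H721.Five
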