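import Cfsg.Agent.H721.FixBase

/-!
# Fixed classes of the elements of order three of `Co0` in `Λ / 2Λ` (helper721; tables generated)

`comm_inv` : if `c` is one of `c6`, `c8`, `c12` and `x` a fixed class, then some involution outside the center commutes
with `c` and fixes `x`.
-/

set_option autoImplicit false
set_option maxRecDepth 100000

namespace Cfsg.Agent.H721.FixT

open Cfsg Cfsg.Agent.SporadicA Cfsg.Agent.SporadicStructure.Co0Matrix Cfsg.Agent.CoOneType.CoEval
open Cfsg.Agent.MonsterU.Lam2 Cfsg.Agent.LThreeMB.Fix
open Cfsg.Agent.LThreeCo1.Ev Cfsg.Agent.LThreeCo1.Class Cfsg.Agent.LThreeCo1.Ranks Cfsg.Agent.LThreeCo1.AGrp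

/-- the steps for `c6` -/
def P6 (m : ℕ) : ℕ := (0x0 >>> (2 * m)) % 4

theorem all6 : allB (v6.map Prod.fst) [1, 2, 2, 3, 3, 4, 4] [11, 11, 11, 8, 11, 10, 9, 7, 8] [1, 2, 4, 8, 16, 32]
    []
    [] P6 0 7 = true := by decide +kernel

/-- the steps for `c8` -/
def P8 (m : ℕ) : ℕ := (0xff367b54ddeb49d3d4d0df3bd2631032d9626adeb46af1cbe2e77ddecd0b38c4 >>> (1 * m)) % 2

theorem all8 : allB (v8.map Prod.fst) [42] [41, 43, 41, 40, 41, 43, 41, 40] [1, 3, 25, 8, 13, 186, 210, 156]
    [[40], [41]]
    [[4, 69, 5, 181, 140, 28, 70, 44], [13, 71, 101, 25, 14, 166, 24, 64]] P8 8 40 = true := by decide +kernel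

/-- the steps for `c12` -/
def P12 (m : ℕ) : ℕ := (0x9554506a69a99495818129694905a12425956908a951aa8815259a9a292124a908696a62656a5856a90a6060840a10489a214aaa5a621619686a61522244416009a95446142609699889191a60120408952802295625aa616266424a2a19484464248499a46a299081a1a96951a1195824a9a160a905aaa15828655a680408a66a8524a01450a898046a19414029916599a91121422981019a2410581a446a14484aa96a4140654059122090602512640806666a1901080164a86622586445184260696840601a24691420a6226a05924848aaa864400811196a6a055a266a28a65929216848250958a9a591415989a9a9a58509a0298141a92408a92a0659a5a651aa26958221a1a4640605a6a6860584221aa96099aa88420005244aa12604aa924989466816099058811a58989496055068aaaa8210a51152924a925099959a405992509aa644101649991a1056aa40a528a94a8102a84486815280859a52a540a91aaa12a04426250240866601528462169682a9862a95a0444465a6a484a41480586444aa9996a6aa11629568a0106114124212a5a6869a82161a8122690152828558a584481644a601a44104984a8410129a59161289a291568a169102941492919a9a1010951aa958aa46055286061498659598186862559682aa9282240460490614929aa6a890500996a5100406254685466625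a18682852aa160a68892a440a65a28a4a548aa10a442204a26124060a56091a144a6a292609664a005488209490854a6a940181609a69a1a251898851a12aa9646a89211124184a6921145189010a25966049a690868a91064981a4218906a1692aa495a5a4605620842040586580826210889916592a09a40a005846a60060656a4a169a6a99522a951a92a1221a668050400110684616649a69088968109890409816224241a8926a0664aaa80289a062498049a9294a05aa9585a49aa42058504511299a59012a4846a81a94824a284a41810999a1224945625295069954440014949aa594846a88655298229a5166150215020619aa808591156906208461408428244a49aaa8494a5654460562899848056446a614221a165aa61916419146599489a6499191a6a4842290a044824612a21626a815a9a951a15205a281499900a5252146a94a2aa606214225041285aaa406a5aa1a69aaa68600848801096a022596a666a9002055a19112902a8a402889250a985aa058959a6098514a16899a910aa29a91022a9a98825a99949aa68814181a040898a94208499a196895982292144580916a629066a0698825a6884a6824060518428615a126a22594940412aa252402929a408216962968661260896660516058406595a0aa92a66504a45aa1a4642682890996a80688914aaa9a98161a04801815614401961495690885658a4502694a8 >>> (2 * m)) % 4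

/-- the involution for `c12` -/
def T12 : List ℕ := [3488, 2169, 4, 1040, 16, 1607, 3553, 3299, 2233, 2052, 24, 516]
/-- the words of the generators for `c12` -/
def U12 : List (List ℕ) := [[3], [7, 11, 7, 11], [9, 7, 11, 10, 8, 7]]
/-- the generators for `c12` -/
def G12 : List (List ℕ) :=
  [[2417, 3557, 3303, 72, 108, 3291, 8, 2655, 3297, 735, 579, 95], [2695, 3809, 223, 822, 823, 221, 3256, 2052, 4001, 2274, 24, 95], [2719, 3781, 3646, 9, 2480, 34, 514, 3898, 3769, 2008, 1854, 3902]]

theorem a12_1 : eqB M ([11, 7, 8, 11, 9, 8] ++ [11, 7, 8, 11, 9, 8]) [] = true := by decide +kernel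
theorem a12_2 : neB' M ([11, 7, 8, 11, 9, 8] ++ [7]) ([7] ++ [11, 7, 8, 11, 9, 8]) = true := by decide +kernel
theorem a12_3 : eqB M ([11, 7, 8, 11, 9, 8] ++ [1, 2]) ([1, 2] ++ [11, 7, 8, 11, 9, 8]) = true := by decide +kernel
theorem a12_4 : colB (v12.map Prod.fst) [11, 7, 8, 11, 9, 8] T12 = true := by decide +kernel
theorem a12_5 : Nat.beq G12.length U12.length = true := by decide +kernel
theorem a12_6a : colB (v12.map Prod.fst) (U12.getD 0 []) (G12.getD 0 []) = true := by decide +kernel
theorem a12_6b : colB (v12.map Prod.fst) (U12.getD 1 []) (G12.getD 1 []) = true := by decide +kernel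
theorem a12_6c : colB (v12.map Prod.fst) (U12.getD 2 []) (G12.getD 2 []) = true := by decide +kernel
theorem a12_7 : ((List.range U12.length).all fun i => eqB M (U12.getD i [] ++ [1, 2]) ([1, 2] ++ U12.getD i [])) = true := by
  decide +kernel

/-- the steps `512 j, ..., 512 j + 511` -/
def R12 (j : ℕ) : Bool := (List.range' (j * 512) 512).all fun m => reach T12 G12 P12 5 m

theorem r12_0 : R12 0 = true := by decide +kernel
theorem r12_1 : R12 1 = true := by decide +kernel
theorem r12_2 : R12 2 = true := by decide +kernel
theorem r12_3 : R12 3 = true := by decide +kernel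
theorem r12_4 : R12 4 = true := by decide +kernel
theorem r12_5 : R12 5 = true := by decide +kernel
theorem r12_6 : R12 6 = true := by decide +kernel
theorem r12_7 : R12 7 = true := by decide +kernel

theorem len12 : (v12.map Prod.fst).length = 12 := by decide +kernel

theorem reach12 : reachB T12 G12 P12 5 (2 ^ (v12.map Prod.fst).length) = true := by
  rw [len12, reachB, List.all_eq_true]
  intro m hm
  have hm : m < 4096 := List.mem_range.1 hm
  have key : ∀ j, R12 j = true → m / 512 = j → reach T12 G12 P12 5 m = true := by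
    intro j hj h
    rw [R12, List.all_eq_true] at hj
    exact hj m (List.mem_range'_1.2 (by omega))
  have h : m / 512 < 8 := by omega
  generalize hj : m / 512 = j at h
  interval_cases j
  · exact key 0 r12_0 hj
  · exact key 1 r12_1 hj
  · exact key 2 r12_2 hj
  · exact key 3 r12_3 hj
  · exact key 4 r12_4 hj
  · exact key 5 r12_5 hj
  · exact key 6 r12_6 hj
  · exact key 7 r12_7 hj

theorem a12_6 : ((List.range U12.length).all fun i => colB (v12.map Prod.fst) (U12.getD i []) (G12.getD i [])) = true := by
  rw [List.all_eq_true]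
  intro i hi
  have hi : i < 3 := List.mem_range.1 hi
  interval_cases i
  · exact a12_6a
  · exact a12_6b
  · exact a12_6c

theorem all12' : allB (v12.map Prod.fst) [1, 2] [11, 7, 8, 11, 9, 8] T12 U12 G12 P12 5 7 = true := by
  rw [allB, a12_1, a12_2, a12_3, a12_4, a12_5, a12_6, a12_7, reach12]
  rfl

theorem all12 : allB (v12.map Prod.fst) [1, 2] [11, 7, 8, 11, 9, 8] [3488, 2169, 4, 1040, 16, 1607, 3553, 3299, 2233, 2052, 24, 516]
    [[3], [7, 11, 7, 11], [9, 7, 11, 10, 8, 7]]
    [[2417, 3557, 3303, 72, 108, 3291, 8, 2655, 3297, 735, 579, 95], [2695, 3809, 223, 822, 823, 221, 3256, 2052, 4001, 2274, 24, 95], [2719, 3781, 3646, 9, 2480, 34, 514, 3898, 3769, 2008, 1854, 3902]] P12 5 7 = true := all12'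

/-! ### The words of the representatives -/

theorem pw_small {w : List ℕ} (h : ∀ i ∈ w, i < 40) : pw w = (w.map LThreeCo1.Rel.e).prod := by
  unfold pw
  congr 1
  apply List.map_congr_left
  intro i hi
  rw [e, if_pos (h i hi)]

theorem pw_c6 : pw [1, 2, 2, 3, 3, 4, 4] = c6 := by
  rw [pw_small (by decide)]
  have h := LThreeCo1.Rel.wd_prod 79
  have e1 : LThreeCo1.Rel.wd 79 = [1, 2, 2, 3, 3, 4, 4] := by decide
  rw [e1] at h
  exact h

theorem pw_c12 : pw [1, 2] = c12 := by
  rw [pw_small (by decide)]
  have h := LThreeCo1.Rel.wd_prod 4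
  have e1 : LThreeCo1.Rel.wd 4 = [1, 2] := by decide
  rw [e1] at h
  exact h

theorem eq42 : eqB M [42] [29] = true := by decide +kernel

theorem pw_c8 : pw [42] = c8 := by
  rw [pw_eq eq42, pw_small (by decide)]
  simp only [List.map_cons, List.map_nil, List.prod_cons, List.prod_nil, mul_one]
  rfl

theorem lat6 : latB v6 = true := by decide +kernel
theorem lat8 : latB v8 = true := by decide +kernel
theorem lat12 : latB v12 = true := by decide +kernel
theorem span6 : spanB Q6 v6 = true := by decide +kernel
theorem span8 : spanB (LThreeCo1.Rel.M 29) v8 = true := by decide +kernel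
theorem span12 : spanB Q12 v12 = true := by decide +kernel

/-- **Every class fixed by `c6`, `c8` or `c12` is fixed by a noncentral involution commuting with it.** -/
theorem comm_inv {c : Co0} (hc : c = c6 ∨ c = c8 ∨ c = c12) {x : L2} (hx : c • x = x) :
    ∃ s : Co0, s * s = 1 ∧ s ∉ Subgroup.center Co0 ∧ s * c = c * s ∧ s • x = x := by
  rcases hc with rfl | rfl | rfl
  · exact main_of rep6 lat6 span6 pw_c6 all6 hx
  · exact main_of rep8 lat8 span8 pw_c8 all8 hx
  · exact main_of rep12 lat12 span12 pw_c12 all12 hx

end Cfsg.Agent.H721.FixT
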